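import Cfsg.Agent.CpN.MnA

/-!
# `Mn`: small involutions inverting a central element of order 3

`U_x = ⁅V, zpowers x⁆`, `I_b = ⁅V, zpowers b⁆`.
-/

set_option autoImplicit false
set_option linter.unusedSectionVars false

namespace Cfsg.Agent.CpN

open Cfsg.Agent.PLocal hiding centralizer_anti
open Subgroup Cfsg Cfsg.Agent.PLocal.Amb Cfsg.Agent.PLocal.TV
open Cfsg.Agent.PLocal.SL2Nat Cfsg.Agent.PLocal.Bk
open Cfsg.Agent.PLocal.CP (IsCharP MinOver ncl secCent)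
open Cfsg.Agent.Solv.Ext (Inv)
open Cfsg.Agent.QT.Qrc (P2)
open Cfsg.Agent.NFS
open scoped commutatorElement MatrixGroups Cfsg.Agent.PLocal.CP

variable {G : Type*} [Group G] [Finite G] {V S D F : Subgroup G} {b b' : G}

theorem m3_mem {z x : G} (h3 : orderOf z = 3) (hx : x ∈ zpowers z) : x = 1 ∨ x = z ∨ x = z⁻¹ := by
  classical
  obtain ⟨i, hi, e⟩ := Finset.mem_image.1 (mem_zpowers_iff_mem_range_orderOf.1 hx)
  rw [h3, Finset.mem_range] at hi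
  have z3 : z ^ 3 = 1 := h3 ▸ pow_orderOf_eq_one z
  interval_cases i
  · exact .inl (by rw [← e, pow_zero])
  · exact .inr (.inl (by rw [← e, pow_one]))
  · refine .inr (.inr (eq_inv_of_mul_eq_one_left ?_))
    rw [← e, ← pow_succ, z3]

theorem m3_sq {z : G} (h3 : orderOf z = 3) : 𝐜[z * z] ≤ 𝐜[z] := fun v hv => by
  have z3 : z ^ 3 = 1 := h3 ▸ pow_orderOf_eq_one z
  have e : z = (z * z) * (z * z) := by
    calc z = z ^ 3 * z := by rw [z3, one_mul]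
      _ = _ := by simp only [pow_succ, pow_zero, one_mul, mul_assoc]
  have c : Commute v (z * z) := mem_centralizer_singleton_iff.1 hv
  rw [e]
  exact mem_centralizer_singleton_iff.2 (c.mul_right c).eq

/-- a nontrivial `z`-invariant subgroup of `U_z` has order 4 or 16 -/
theorem Mn.m3_card (h : Mn V S D F) {z : G} (hz : z ∈ D) (h3 : orderOf z = 3)
    (hc : Nat.card ↥⁅V, zpowers z⁆ = 16) {Y : Subgroup G} (hY : Y ≤ ⁅V, zpowers z⁆) (hn : z ∈ 𝐍[Y])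
    (h1 : Y ≠ ⊥) : Nat.card Y = 4 ∨ Y = ⁅V, zpowers z⁆ := by
  have a1 := card_dvd_of_fpf (zpowers_le.2 hn) fun y hy h1 => by
    rw [← Amb.centralizer_zpowers, mb_zp (h3 ▸ Nat.prime_three) hy h1, Amb.centralizer_zpowers]
    exact eq_bot_iff.2 ((inf_le_inf_right _ hY).trans (h.mb_split hz).2.le)
  rw [Nat.card_zpowers, h3] at a1
  have a2 := card_dvd_of_le hY
  have a3 : Nat.card Y ≠ 1 := fun e => h1 (card_eq_one.1 e)
  have a4 : Nat.card Y = 4 ∨ Nat.card Y = 16 := by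
    rw [hc] at a2
    have a5 := Nat.le_of_dvd (by norm_num) a2
    generalize Nat.card Y = n at a1 a2 a3 a5
    interval_cases n <;> omega
  exact a4.imp_right fun e => eq_of_le_of_card_ge hY (by rw [e, hc])

/-- fixed point free pieces lie in `U_y` -/
theorem Mn.m3_fpf (h : Mn V S D F) {y : G} (hy : y ∈ D) {X : Subgroup G} (hX : X ≤ V)
    (hn : y ∈ 𝐍[X]) (h0 : X ⊓ 𝐜[y] = ⊥) : X ≤ ⁅V, zpowers y⁆ := by
  have h1 := (odd_split (h.i_ea hX) (h.i_odd (zpowers_le.2 hy)) (zpowers_le.2 hn)).1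
  rw [Amb.centralizer_zpowers, h0, sup_bot_eq] at h1
  exact h1.ge.trans (commutator_mono hX le_rfl)

theorem Mn.m3_half (h : Mn V S D F) {z z' : G} (hz : z ∈ D ⊓ 𝐂[D]) (h3 : orderOf z = 3)
    (hz' : z' ∈ D ⊓ 𝐂[D]) (hY : ⁅V, zpowers z⁆ ⊓ ⁅V, zpowers z'⁆ ≤ 𝐜[z * z']) :
    ⁅V, zpowers z⁆ ≤ ⁅V, zpowers (z * z'⁻¹)⁆ := by
  have yD : z * z'⁻¹ ∈ D := mul_mem hz.1 (inv_mem hz'.1)
  have nU := mb_nc (h.DV yD) (hz.2 _ yD)
  have c : Commute z z' := hz'.2 z hz.1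
  have h1 := (odd_split (h.i_ea (h.i_le hz.1)) (h.i_odd (zpowers_le.2 hz'.1))
    (zpowers_le.2 (mb_nc (h.DV hz'.1) (hz.2 _ hz'.1)))).1
  rw [Amb.centralizer_zpowers] at h1
  refine h1.ge.trans (sup_le (le_trans (le_inf ?_ (commutator_mono (h.i_le hz.1) le_rfl))
    (h.m3_fpf yD (inf_le_left.trans (h.i_le hz.1)) (mb_inf nU (mb_nc (h.DV yD) (hz'.2 _ yD))) ?_))
    (h.m3_fpf yD (inf_le_left.trans (h.i_le hz.1)) (mb_inf nU (mb_ncc (hz'.2 _ yD))) ?_))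
  · exact le_sup_left.trans h1.le
  · refine eq_bot_iff.2 fun v hv => (h.i_bot hz.1).le ⟨hv.1.1, m3_sq h3 ?_⟩
    have c1 : Commute v (z * z') := mem_centralizer_singleton_iff.1 (hY hv.1)
    have c2 : Commute v (z * z'⁻¹) := mem_centralizer_singleton_iff.1 hv.2
    have e : z * z = z * z' * (z * z'⁻¹) := by
      rw [mul_assoc z z', ← mul_assoc z', ← c.eq]; group
    rw [e]
    exact mem_centralizer_singleton_iff.2 (c1.mul_right c2).eq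
  · refine eq_bot_iff.2 fun v hv => (h.i_bot hz.1).le ⟨hv.1.1, ?_⟩
    have c1 : Commute v z' := mem_centralizer_singleton_iff.1 hv.1.2
    have c2 : Commute v (z * z'⁻¹) := mem_centralizer_singleton_iff.1 hv.2
    have := (c2.mul_right c1).eq
    rw [inv_mul_cancel_right] at this
    exact mem_centralizer_singleton_iff.2 this

theorem Mn.m3_act (h : Mn V S D F) (hb : Sm V S b) {z z' : G} (hz : z ∈ D ⊓ 𝐂[D])
    (h3 : orderOf z = 3) (hi : b * z * b⁻¹ = z⁻¹) (hz' : z' ∈ D ⊓ 𝐂[D]) (h3' : orderOf z' = 3)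
    (c' : Nat.card ↥⁅V, zpowers z'⁆ = 16) (h0 : ⁅V, zpowers z⁆ ⊓ ⁅V, zpowers z'⁆ ≠ ⊥)
    (hY : ⁅V, zpowers z⁆ ⊓ ⁅V, zpowers z'⁆ ≤ 𝐜[z * z'])
    (h16 : Nat.card ↥⁅V, zpowers (z * z'⁻¹)⁆ ≠ 16) : b * z' * b⁻¹ = z' * z := by
  have tD := conj_mem_of_mem_normalizer (h.SD hb.mem) hz'.1
  have c : Commute z z' := hz'.2 z hz.1
  have a3 : z'⁻¹ * (b * z' * b⁻¹) ∈ zpowers z := by
    refine (h.invz hb hz (h3 ▸ Nat.prime_three) hi).2 _ (mul_mem (inv_mem hz'.1) tD) ?_ ?_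
    · have : (z'⁻¹ * (b * z' * b⁻¹)) ^ 3 ^ 1 = 1 := by
        rw [pow_one, (Commute.inv_left (hz'.2 _ tD).symm).mul_pow, conj_pow, inv_pow, ← h3',
          pow_orderOf_eq_one]
        simp
      obtain ⟨j, -, hj⟩ := (Nat.dvd_prime_pow Nat.prime_three).1 (orderOf_dvd_of_pow_eq_one this)
      exact ⟨j, h3 ▸ hj⟩
    · calc _ = b * z'⁻¹ * b⁻¹ * ((b * b) * z' * (b * b)⁻¹) := by group
        _ = _ := by rw [hb.sq]; group
  rcases m3_mem h3 a3 with e | e | e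
  · rw [inv_mul_eq_one, eq_comm] at e
    have e1 : b * (z * z'⁻¹) * b⁻¹ = (z * z')⁻¹ := by
      rw [← conj_mul, hi, ← conj_inv, e, c.eq, mul_inv_rev]
    have e2 := cj_mono b (h.m3_half hz h3 hz' hY)
    rw [cj_of_mem_normalizer (mb_ni (h.SV hb.mem) hi), mb_cj (h.SV hb.mem), e1, zpowers_inv] at e2
    exact (h0 (eq_bot_iff.2 ((le_inf (inf_le_left.trans e2) hY).trans
      (h.i_bot (mul_mem hz.1 hz'.1)).le))).elim
  · rwa [inv_mul_eq_iff_eq_mul] at e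
  · rw [inv_mul_eq_iff_eq_mul] at e
    refine (h16 ?_).elim
    rw [← zpowers_inv, mul_inv_rev, inv_inv, ← e, ← mb_cj (h.SV hb.mem), card_cj, c']

theorem Mn.m3_core (h : Mn V S D F) (hb : Sm V S b) (hb' : Sm V S b') {z z' : G}
    (hz : z ∈ D ⊓ 𝐂[D]) (h3 : orderOf z = 3) (hi : b * z * b⁻¹ = z⁻¹) (hz' : z' ∈ D ⊓ 𝐂[D])
    (h3' : orderOf z' = 3) (hi' : b' * z' * b'⁻¹ = z'⁻¹) (hne : zpowers z' ≠ zpowers z)
    (h0 : ⁅V, zpowers z⁆ ⊓ ⁅V, zpowers z'⁆ ⊓ 𝐜[z * z'] ≠ ⊥) : False := by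
  have z1 : z ≠ 1 := fun e => by simp [e] at h3
  have z1' : z' ≠ 1 := fun e => by simp [e] at h3'
  have c1 := (h.mb_six hb hz.1 z1 hi).1
  have c1' := (h.mb_six hb' hz'.1 z1' hi').1
  have c : Commute z z' := hz'.2 z hz.1
  have yD : z * z' ∈ D := mul_mem hz.1 hz'.1
  have nz := mb_nc (h.DV hz.1) (rfl : z * z = z * z)
  have nY := mb_inf nz (mb_nc (h.DV hz.1) c.eq)
  have Y0 : ⁅V, zpowers z⁆ ⊓ ⁅V, zpowers z'⁆ ≠ ⊥ := fun e => h0 (by rw [e, bot_inf_eq])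
  rcases h.m3_card hz.1 h3 c1 inf_le_left nY Y0 with k | k
  swap
  · have k1 : ⁅V, zpowers z'⁆ ≤ ⁅V, zpowers z⁆ :=
      (eq_of_le_of_card_ge (inf_eq_left.1 k) (by rw [c1, c1'])).ge
    have k2 : ⁅V, zpowers (z * z')⁆ ≤ ⁅V, zpowers z⁆ :=
      (commutator_mono le_rfl (zpowers_le.2 (mul_mem (mem_sup_left (mem_zpowers z))
        (mem_sup_right (mem_zpowers z'))))).trans (mdi_sup (h.i_le hz.1) le_rfl k1)
    have k3 := (h.m3_card hz.1 h3 c1 k2 (mb_nc (h.DV hz.1) (hz.2 _ yD).symm) fun e => hne (by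
      rw [commutator_comm, commutator_eq_bot_iff_le_centralizer] at e
      have := mem_bot.1 (h.fD.le ⟨yD, e (mem_zpowers _)⟩)
      rw [eq_inv_of_mul_eq_one_right this, zpowers_inv])).resolve_left (h.no2 yD)
    exact h0 (eq_bot_iff.2 ((inf_le_inf_right _ (inf_le_left.trans k3.ge)).trans (h.i_bot yD).le))
  have hY : ⁅V, zpowers z⁆ ⊓ ⁅V, zpowers z'⁆ ≤ 𝐜[z * z'] := by
    rcases h.m3_card hz.1 h3 c1 (inf_le_left.trans inf_le_left)
      (mb_inf nY (mb_ncc (hz.2 _ yD).symm)) h0 with k1 | k1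
    · exact inf_eq_left.1 (eq_of_le_of_card_ge inf_le_left (by rw [k, k1]))
    · exact inf_le_left.trans (k1.ge.trans inf_le_right)
  have hY' : ⁅V, zpowers z'⁆ ⊓ ⁅V, zpowers z⁆ ≤ 𝐜[z' * z] := by rwa [inf_comm, ← c.eq]
  have ez : zpowers (z' * z⁻¹) = zpowers (z * z'⁻¹) := by rw [← zpowers_inv, mul_inv_rev, inv_inv]
  have h16 : Nat.card ↥⁅V, zpowers (z * z'⁻¹)⁆ ≠ 16 := fun e => by
    have u1 := eq_of_le_of_card_ge (h.m3_half hz h3 hz' hY) (by rw [e, c1])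
    have u2 := eq_of_le_of_card_ge (h.m3_half hz' h3' hz hY') (by rw [ez, e, c1'])
    rw [u2, ez, ← u1, inf_idem, c1] at k
    omega
  have b1 := h.m3_act hb hz h3 hi hz' h3' c1' Y0 hY h16
  have b2 := h.m3_act hb' hz' h3' hi' hz h3 c1 (by rwa [inf_comm]) hY' (by rwa [ez])
  have d1 : b * b' * z * (b * b')⁻¹ = z' := by
    calc _ = b * (b' * z * b'⁻¹) * b⁻¹ := by group
      _ = z' := by rw [b2, ← conj_mul, hi, b1, ← c.eq, inv_mul_cancel_left]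
  have d2 : b * b' * z' * (b * b')⁻¹ = (z' * z)⁻¹ := by
    calc _ = b * (b' * z' * b'⁻¹) * b⁻¹ := by group
      _ = _ := by rw [hi', ← conj_inv, b1]
  have cS := mul_mem hb.mem hb'.mem
  generalize b * b' = g at d1 d2 cS
  have d3 : g ^ 3 * z * (g ^ 3)⁻¹ = z := by
    calc _ = g * (g * (g * z * g⁻¹) * g⁻¹) * g⁻¹ := by simp only [pow_succ, pow_zero]; group
      _ = z := by rw [d1, d2, ← conj_inv, ← conj_mul, d1, d2]; group
  have d4 : g ∈ 𝐜[z] := by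
    refine mem_of_pow_mem_of_coprime (n := 3)
      (mem_centralizer_singleton_iff.2 (mul_inv_eq_iff_eq_mul.1 d3)) ?_
    obtain ⟨n, hn⟩ := h.pg ⟨g, cS⟩
    have : g ^ 2 ^ n = 1 := congrArg Subtype.val hn
    exact (Nat.Coprime.pow_left n (by norm_num)).of_dvd_left (orderOf_dvd_of_pow_eq_one this)
  rw [mem_centralizer_singleton_iff.1 d4, mul_inv_cancel_right] at d1
  exact hne (by rw [d1])

/-- Two central elements of order 3 inverted by small involutions.  Put `U = U_z`, `U' = U_{z'}`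
(order 16 by `sixteen`), `Y = U ⊓ U'`; suppose `Y ≠ ⊥`.  `E = ⟨z, z'⟩` has order 9 and normalises `Y`;
`|Y| ∣ 16`; `9 ∤ |Y| - 1`, so (`card_dvd_of_fpf`) some `1 ≠ y ∈ E` has `Y ⊓ 𝐜[y] ≠ ⊥`; `y ∉ ⟨z⟩, ⟨z'⟩`
(`mb_split`), so after replacing `z'` by `z'⁻¹` if necessary (same hypotheses, same `U'`) `y = z z'`
(up to inversion).  A nontrivial `z`-invariant subgroup of `U` has order 4 or 16 (`3 ∣ |·| - 1`).
* `Y = U` (so `= U'`): `U_y ≤ Y`, `U_y ⊓ (Y ⊓ 𝐜[y]) = ⊥`, `|Y ⊓ 𝐜[y]| ≥ 4`, so `|U_y| ≤ 4`; `U_y ≠ ⊥` (`fD`,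
  `y ≠ 1`) is `z`-invariant, so `|U_y| = 4`, against `no2`.
* So `|Y| = 4`, `Y ≤ 𝐜[y]`, `U ≠ U'`.  Let `y' = z z'⁻¹`.  `U ≤ U_{y'}`: `U = [U, z'] ⊔ (U ⊓ 𝐜[z'])`
  (`odd_split`), `[U, z'] ≤ Y`; `y'` acts on `Y` as `z²` (`z' = z⁻¹` on `Y`) and on `U ⊓ 𝐜[z']` as `z`, fixed
  point freely, so both lie in `U_{y'}` (`X = [X, y'] ⊔ C_X(y')`).  Symmetrically `U' ≤ U_{y'}`; so
  `|U_{y'}| ≠ 16`.
  `w = z'⁻¹ (b z' b⁻¹)` lies in `Z(D)`, `w³ = 1`, `b` inverts it, so `w ∈ ⟨z⟩` (`invz`; copy `a3` of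
  `NFS.Md.five`): `b z' b⁻¹ ∈ {z', z' z, z' z⁻¹}`.  If it is `z'` then `b y' b⁻¹ = y⁻¹`, so
  `U_y = cj(b, U_{y'}) ≥ cj(b, U) = U ≥ Y`, but `Y ≤ 𝐜[y]`, `U_y ⊓ 𝐜[y] = ⊥`.  If it is `z' z⁻¹ = y'⁻¹` then
  `|U_{y'}| = |U'| = 16`.  So `b z' b⁻¹ = z z'`; symmetrically `b' z b'⁻¹ = z z'`.  `c = b b' ∈ S`:
  `c z c⁻¹ = z'`, `c z' c⁻¹ = (z z')⁻¹`, so `c³ ∈ 𝐜[z]`; `c` is a 2-element, so `c ∈ 𝐜[z]`
  (`mem_of_pow_mem_of_coprime`), `z' = z`, absurd. -/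
theorem Mn.dis3 (h : Mn V S D F) (hb : Sm V S b) (hb' : Sm V S b') {z z' : G} (hz : z ∈ D ⊓ 𝐂[D])
    (h3 : orderOf z = 3) (hi : b * z * b⁻¹ = z⁻¹) (hz' : z' ∈ D ⊓ 𝐂[D]) (h3' : orderOf z' = 3)
    (hi' : b' * z' * b'⁻¹ = z'⁻¹) (hne : zpowers z' ≠ zpowers z) :
    ⁅V, zpowers z⁆ ⊓ ⁅V, zpowers z'⁆ = ⊥ := by
  by_contra Y0
  have z1 : z ≠ 1 := fun e => by simp [e] at h3
  have z1' : z' ≠ 1 := fun e => by simp [e] at h3'
  have c1 := (h.mb_six hb hz.1 z1 hi).1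
  have c : Commute z z' := hz'.2 z hz.1
  have p3 : (orderOf z).Prime := h3 ▸ Nat.prime_three
  have p3' : (orderOf z').Prime := h3' ▸ Nat.prime_three
  have hX : zpowers z ⊔ zpowers z' ≤ D := sup_le (zpowers_le.2 hz.1) (zpowers_le.2 hz'.1)
  have nY : zpowers z ⊔ zpowers z' ≤ 𝐍[⁅V, zpowers z⁆ ⊓ ⁅V, zpowers z'⁆] := fun y hy =>
    mb_inf (mb_nc (h.DV (hX hy)) (hz.2 y (hX hy))) (mb_nc (h.DV (hX hy)) (hz'.2 y (hX hy)))
  refine hne (mb_zp p3' (mb_fifteen (.inl h3') c.eq ⟨1, by rw [h3, h3', pow_one]⟩ ?_) z1).symm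
  refine (card_dvd_of_fpf nY fun y hy y1 => ?_).trans ?_
  · obtain ⟨a, ha, a', ha', rfl⟩ := (mem_sup_of_le_normalizer_right (zpowers_le.2
      (centralizer_le_normalizer' _ (by
        rw [Amb.centralizer_zpowers]; exact mem_centralizer_singleton_iff.2 c.eq)))).1 hy
    by_cases a1 : a = 1
    · rw [a1, one_mul] at y1 ⊢
      rw [← Amb.centralizer_zpowers, mb_zp p3' ha' y1, Amb.centralizer_zpowers]
      exact eq_bot_iff.2 ((inf_le_inf_right _ inf_le_right).trans (h.i_bot hz'.1).le)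
    by_cases a1' : a' = 1
    · rw [a1', mul_one, ← Amb.centralizer_zpowers, mb_zp p3 ha a1, Amb.centralizer_zpowers]
      exact eq_bot_iff.2 ((inf_le_inf_right _ inf_le_left).trans (h.i_bot hz.1).le)
    have e := mb_zp p3 ha a1
    have e' := mb_zp p3' ha' a1'
    by_contra k
    refine h.m3_core hb hb' (zpowers_le.2 hz ha) (by rw [← Nat.card_zpowers, e, Nat.card_zpowers, h3])
      (mb_inv hi ha) (zpowers_le.2 hz' ha') (by rw [← Nat.card_zpowers, e', Nat.card_zpowers, h3'])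
      (mb_inv hi' ha') (by rwa [e, e']) (by rwa [e, e'])
  · rcases h.m3_card hz.1 h3 c1 inf_le_left (nY (mem_sup_left (mem_zpowers z))) Y0 with k | k
    · rw [k]; norm_num
    · rw [k, c1]

/-- `Mn.diagV` with `z` and `1 ≠ v ∈ X = U_z ⊓ 𝐂[T]`, `T = S ⊓ 𝐍[zpowers z] ∋ b`
(`inf_centralizer_ne_bot`); `X ≤ U_z ⊓ 𝐜[b] = I_b` (`mb_six`) has order `≤ 4`.  Let `f ∈ F`,
`z' = f z f⁻¹`, `b' = f b f⁻¹` (`Sm`, copy from `NFS.Md.five`).  If `⟨z'⟩ = ⟨z⟩`: `cen_of_35`, and `f`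
normalises `X`, `cen_of_le_four` (`f_odd`, `f_three`).  Otherwise `dis3` and `mb_cen` give `U_z ≤ 𝐜[z']`,
`U_{z'} ≤ 𝐜[z]` (`f v f⁻¹ ∈ U_{z'}` by `u_cj`).  See the proof of `Mn.no2`. -/
theorem Mn.three (h : Mn V S D F) (hb : Sm V S b) {z : G} (hz : z ∈ D ⊓ 𝐂[D])
    (h3 : orderOf z = 3) (hi : b * z * b⁻¹ = z⁻¹) : False := by
  have z1 : z ≠ 1 := fun e => by simp [e] at h3
  obtain ⟨c1, c2, c3, -⟩ := h.mb_six hb hz.1 z1 hi
  have nz : ∀ g : G, zpowers (g * z * g⁻¹) = zpowers z → g ∈ 𝐍[zpowers z] := fun g hg => by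
    rw [← cj_eq_iff, mdi_zp, hg]
  have bT : b ∈ S ⊓ 𝐍[zpowers z] := ⟨hb.mem, nz b (by rw [hi, zpowers_inv])⟩
  have X0 := inf_centralizer_ne_bot (h.pg.to_le (inf_le_left : S ⊓ 𝐍[zpowers z] ≤ S))
    (elemAb_isPGroup (h.i_ea (h.i_le hz.1)))
    (le_normalizer_commutator (inf_le_left.trans h.SV) inf_le_right)
    fun e => by rw [e, card_bot] at c1; omega
  have X4 : Nat.card ↥(⁅V, zpowers z⁆ ⊓ 𝐂[(S ⊓ 𝐍[zpowers z] : Subgroup G)]) ≤ 4 := by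
    rw [← c2, ← c3]
    exact card_le_of_le (inf_le_inf_left _ fun v hv => mem_centralizer_singleton_iff.2 (hv b bT).symm)
  obtain ⟨⟨v, hv⟩, v1⟩ := ne_bot_iff_exists_ne_one.1 X0
  refine h.diagV hz.1 hv.1 (fun e => v1 (Subtype.ext e)) fun f hf => ?_
  by_cases e : zpowers (f * z * f⁻¹) = zpowers z
  · refine .inl ⟨cen_of_35 (.inl h3) (e.le (mem_zpowers _)) (h.f_odd hf), ?_⟩
    have n := zpowers_le.2 (nz f e)
    have n1 := zpowers_le.1 (le_normalizer_commutator (zpowers_le.2 (h.FV hf)) n)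
    have n2 := normalizer_le_normalizer_centralizer _
      (mb_inf (h.FS hf) (zpowers_le.1 (le_normalizer_normalizer n)))
    exact mul_inv_eq_iff_eq_mul.2
      (cen_of_le_four (mb_inf n1 n2) X4 (h.f_odd hf) (h.f_three hf hz.1 h3) v hv).symm
  have hb' : Sm V S (f * b * f⁻¹) := by
    refine ⟨conj_mem_of_mem_normalizer (h.FS hf) hb.mem, by rw [conj_mul, hb.sq]; simp,
      fun e => hb.ne (by simpa [mul_inv_eq_one] using e), ?_⟩
    rw [centralizer_singleton_conj, ← cj_of_mem_normalizer (h.FV hf),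
      relIndex_map_map_of_injective _ _ (MulAut.conj f).injective]
    exact hb.le
  have hz' := conj_mem_of_mem_normalizer (mb_inf (h.FD hf)
    (normalizer_le_normalizer_centralizer _ (h.FD hf))) hz
  have d := h.dis3 hb hb' hz h3 hi hz' (h3 ▸ (MulAut.conj f).orderOf_eq z)
    (by rw [conj_inv (a := z), ← hi]; group) e
  have a := mb_cen (mb_nc (h.DV hz'.1) (hz.2 _ hz'.1)) (commutator_mono (h.i_le hz.1) le_rfl) d
  have a' := mb_cen (mb_nc (h.DV hz.1) (hz'.2 _ hz.1)) (commutator_mono (h.i_le hz'.1) le_rfl)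
    (by rwa [inf_comm])
  exact .inr ⟨⟨mem_centralizer_singleton_iff.2 (hz.2 _ hz'.1),
    mem_centralizer_singleton_iff.2 (mem_centralizer_singleton_iff.1 (a hv.1)).symm⟩,
    a' (Mn.u_cj (h.FV hf) z ▸ conj_mem_cj f hv.1)⟩

end Cfsg.Agent.CpN
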