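import Cfsg.Agent.CpN.Defs
import Cfsg.Agent.S0205

/-!
# Inheritance of `Dec`, basic facts on `Cn`

Tools: `Solv.Ext.*` in `Solv/ExtAction` (`exists_fixed_of_coset`, `exists_fixed_lift`, ...).
-/

set_option autoImplicit false
set_option linter.unusedSectionVars false

namespace Cfsg.Agent.CpN

open Cfsg.Agent.PLocal hiding centralizer_anti
open Subgroup Cfsg Cfsg.Agent.PLocal.Amb Cfsg.Agent.PLocal.TV
open Cfsg.Agent.PLocal.SL2Nat Cfsg.Agent.PLocal.Bk
open Cfsg.Agent.PLocal.CP (IsCharP MinOver ncl secCent)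
open Cfsg.Agent.Solv.Ext (Inv)
open Cfsg.Agent.QT.Qrc (P2)
open Cfsg.Agent.NFS
open scoped commutatorElement MatrixGroups Cfsg.Agent.PLocal.CP

variable {G : Type*} [Group G] [Finite G] {A : Type*} [Group A] [Finite A] [MulDistribMulAction A G]
  {S : Subgroup G}

theorem bas_fix {c u : G} (hc : ∀ a : A, a • c = c) (hu : u ∈ zpowers c) (a : A) : a • u = u := by
  obtain ⟨n, rfl⟩ := mem_zpowers_iff.1 hu
  rw [← Solv.Ext.hom_apply, map_zpow, Solv.Ext.hom_apply, hc]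

theorem bas_one {u : G} {k : ℕ} (h2 : u ^ 2 ^ k = 1) (ho : Odd (orderOf u)) : u = 1 :=
  orderOf_eq_one_iff.1 (Nat.eq_one_of_dvd_coprimes (ho.coprime_two_right.pow_right k) dvd_rfl
    (orderOf_dvd_of_pow_eq_one h2))

/-- Feit-Thompson (`S0205.result`): one of the two coprime orders is odd -/
theorem Dec.solv (h : Dec A G) : Group.IsSolvable A ∨ Group.IsSolvable G := by
  rcases Nat.even_or_odd (Nat.card A) with e | e
  · refine Or.inr (S0205.result (Nat.not_even_iff_odd.1 fun e' => ?_))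
    have := Nat.eq_one_of_dvd_coprimes h.cop e.two_dvd e'.two_dvd
    omega
  · exact Or.inl (S0205.result e)

/-- 2-part and odd part: `x = a b` with `a`, `b` powers of `x` -/
theorem two_odd (x : G) : ∃ a ∈ zpowers x, ∃ b ∈ zpowers x, (∃ k, a ^ 2 ^ k = 1) ∧ Odd (orderOf b) ∧
    x = a * b := by
  obtain ⟨k, m, hm, e⟩ := Nat.exists_eq_two_pow_mul_odd (orderOf_pos x).ne'
  have hc : IsCoprime ((2 ^ k : ℕ) : ℤ) (m : ℤ) :=
    Nat.isCoprime_iff_coprime.2 (hm.coprime_two_left.pow_left k)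
  obtain ⟨u, v, huv⟩ := hc
  have h1 : x ^ (((2 ^ k : ℕ) : ℤ) * m) = 1 := by
    rw [← Nat.cast_mul, ← e, zpow_natCast, pow_orderOf_eq_one]
  refine ⟨x ^ (v * m), zpow_mem_zpowers _ _, x ^ (u * (2 ^ k : ℕ)), zpow_mem_zpowers _ _, ⟨k, ?_⟩,
    hm.of_dvd_nat (orderOf_dvd_of_pow_eq_one ?_), ?_⟩
  · rw [← zpow_natCast, ← zpow_mul, show v * m * ((2 ^ k : ℕ) : ℤ) = ((2 ^ k : ℕ) : ℤ) * m * v by ring,
      zpow_mul, h1, one_zpow]
  · rw [← zpow_natCast, ← zpow_mul, show u * ((2 ^ k : ℕ) : ℤ) * m = ((2 ^ k : ℕ) : ℤ) * m * u by ring,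
      zpow_mul, h1, one_zpow]
  · rw [← zpow_add, add_comm, huv, zpow_one]

/-- lifting of a fixed coset (`exists_fixed_of_coset`, `isSolvable_top_of`) -/
theorem Dec.lift (h : Dec A G) {N : Subgroup G} (hN : Inv A N) {g : G}
    (hg : ∀ a : A, g⁻¹ * a • g ∈ N) : ∃ c : G, (∀ a : A, a • c = c) ∧ g⁻¹ * c ∈ N := by
  exact Solv.Ext.exists_fixed_of_coset hN (h.cop.coprime_dvd_right (card_subgroup_dvd_card N))
    (Solv.Ext.isSolvable_top_of h.solv N) g hg

/-- a fixed element centralising modulo 2-parts: if `c`, `y` are fixed, `y` is a 2-element and the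
2-part of `c` (`two_odd`) commutes with `y`, so does `c` -/
theorem Dec.comm_of (h : Dec A G) {c y : G} (hc : ∀ a : A, a • c = c) (hy : ∀ a : A, a • y = y)
    (y2 : ∃ k, y ^ 2 ^ k = 1) (h2 : ∀ u ∈ zpowers c, (∃ k, u ^ 2 ^ k = 1) → u * y = y * u) :
    c * y = y * c := by
  obtain ⟨a, ha, b, hb, a2, b2, e⟩ := two_odd c
  have h3 := h.dec b y (bas_fix hc hb) hy b2 y2
  rw [e, mul_assoc, h3, ← mul_assoc, h2 a ha a2, mul_assoc]

/-- equivariant injections (invariant subgroups) -/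
theorem Dec.inj (h : Dec A G) {K : Type*} [Group K] [Finite K] [MulDistribMulAction A K]
    {f : K →* G} (hf : Function.Injective f) (e : ∀ (a : A) (x : K), f (a • x) = a • f x) :
    Dec A K := by
  refine ⟨h.cop.coprime_dvd_right (card_dvd_of_injective f hf), fun x y hx hy ox ⟨k, y2⟩ => hf ?_⟩
  rw [map_mul, map_mul]
  exact h.dec _ _ (fun a => by rw [← e, hx]) (fun a => by rw [← e, hy])
    (by rwa [orderOf_injective f hf]) ⟨k, by rw [← map_pow, y2, map_one]⟩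

/-- equivariant surjections.  Lift fixed `x̄`, `ȳ` to fixed `x`, `y` (`lift` with `N = ker f`); the odd
part of `x` still maps to `x̄` (the 2-part maps to a 2-element of `⟨x̄⟩`, which has odd order) and the
2-part of `y` to `ȳ`. -/
theorem Dec.surj (h : Dec A G) {K : Type*} [Group K] [Finite K] [MulDistribMulAction A K]
    {f : G →* K} (hf : Function.Surjective f) (e : ∀ (a : A) (x : G), f (a • x) = a • f x) :
    Dec A K := by
  have hN : Inv A f.ker := fun a x hx => by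
    rw [MonoidHom.mem_ker] at hx ⊢
    rw [e, hx, smul_one]
  have lift : ∀ x : K, (∀ a : A, a • x = x) → ∃ c : G, (∀ a : A, a • c = c) ∧ f c = x := by
    intro x hx
    obtain ⟨g, rfl⟩ := hf x
    obtain ⟨c, h1, h2⟩ := h.lift hN (g := g) fun a => by
      rw [MonoidHom.mem_ker, map_mul, map_inv, e, hx, inv_mul_cancel]
    rw [MonoidHom.mem_ker, map_mul, map_inv, inv_mul_eq_one] at h2
    exact ⟨c, h1, h2.symm⟩
  refine ⟨h.cop.coprime_dvd_right (card_dvd_of_surjective f hf), fun x y hx hy ox ⟨k, y2⟩ => ?_⟩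
  obtain ⟨c, hc, rfl⟩ := lift x hx
  obtain ⟨d, hd, rfl⟩ := lift y hy
  obtain ⟨a, ha, b, hb, ⟨l, a2⟩, b2, e1⟩ := two_odd c
  obtain ⟨a', ha', b', hb', a2', b2', e2⟩ := two_odd d
  have h1 : f a = 1 := by
    obtain ⟨n, rfl⟩ := mem_zpowers_iff.1 ha
    refine bas_one (k := l) (by rw [← map_pow, a2, map_one]) (ox.of_dvd_nat ?_)
    rw [map_zpow]
    exact orderOf_dvd_of_mem_zpowers (zpow_mem_zpowers _ _)
  have h2 : f b' = 1 := by
    obtain ⟨n, rfl⟩ := mem_zpowers_iff.1 hb'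
    refine bas_one (k := k) ?_ (b2'.of_dvd_nat (orderOf_map_dvd f _))
    rw [map_zpow, ← zpow_natCast, ← zpow_mul, mul_comm, zpow_mul, zpow_natCast, y2, one_zpow]
  have h3 := congrArg f (h.dec b a' (bas_fix hc hb) (bas_fix hd ha') b2 a2')
  rw [map_mul, map_mul] at h3
  rw [e1, e2, map_mul, map_mul, h1, h2, one_mul, mul_one, h3]

open scoped Pointwise in
/-- The stabiliser `B` of a minimal normal subgroup `L` with `L ⊓ 𝐂[L] = ⊥`.  For `x, y ∈ L` fixed by
`B` apply `diag` with `K = 𝐂[L]`, `X = Y = ⊤`: if `a • L ≠ L` then `L ⊓ a • L = ⊥` (normal, `hm`, equal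
orders), so `a • L ≤ 𝐂[L]` (see `Cust.FN.eq_one_of_stab` in `Cust/FpfNil`).  So
`⁅x, y⁆ ∈ L ⊓ 𝐂[L] = ⊥`. -/
theorem Dec.stab (h : Dec A G) {L : Subgroup G} [L.Normal]
    (hm : ∀ K : Subgroup G, K.Normal → K ≤ L → K = ⊥ ∨ K = L) (hc : L ⊓ 𝐂[L] = ⊥) {x y : G}
    (hx : x ∈ L) (hy : y ∈ L) (fx : ∀ a : A, a • L = L → a • x = x)
    (fy : ∀ a : A, a • L = L → a • y = y) (ox : Odd (orderOf x)) (y2 : ∃ k, y ^ 2 ^ k = 1) :
    x * y = y * x := by
  have h3 : ∀ a : A, a • L ≠ L → ∀ c ∈ L, a • c ∈ 𝐂[L] := fun a ha c hc y hy => by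
    have : (a • L).Normal := Normal.map inferInstance _ (Solv.Ext.hom_surjective a)
    refine (commute_of_normal_of_disjoint L (a • L) inferInstance inferInstance
      (disjoint_iff.2 ((hm _ inferInstance inf_le_left).resolve_right fun e => ha ?_)) _ _ hy
      (smul_mem_pointwise_smul _ _ _ hc)).eq
    exact (eq_of_le_of_card_ge (inf_eq_left.1 e)
      (Subgroup.card_map_of_injective (Solv.Ext.hom_injective a)).le).symm
  have h4 : ⁅x, y⁆ ∈ 𝐂[L] := diag (A := A) (K := 𝐂[L]) (X := ⊤) (Y := ⊤)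
    (fun z hz => ⟨mem_centralizer_singleton_iff.2 (hz x hx).symm,
      mem_centralizer_singleton_iff.2 (hz y hy).symm⟩)
    (fun a => by
      by_cases c : a • L = L
      · exact Or.inl ⟨fx a c, fy a c⟩
      · exact Or.inr ⟨h3 a c x hx, h3 a c y hy⟩)
    Solv.Ext.inv_top (mem_top x) Solv.Ext.inv_top (mem_top y) fun ρ _ π _ h1 h2 h5 h6 => by
      obtain ⟨k, y2⟩ := y2
      refine h.dec ρ π h1 h2 (ox.of_dvd_nat (orderOf_dvd_of_pow_eq_one h5)) ⟨k, ?_⟩
      obtain ⟨n, hn⟩ := orderOf_dvd_of_pow_eq_one y2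
      rw [hn, pow_mul, h6, one_pow]
  have h5 : ⁅x, y⁆ ∈ L := by
    rw [commutatorElement_def]
    exact mul_mem (mul_mem (mul_mem hx hy) (inv_mem hx)) (inv_mem hy)
  exact commutatorElement_eq_one_iff_mul_comm.1 (mem_bot.1 (hc ▸ mem_inf.2 ⟨h5, h4⟩))

/-- `|G|` is even by Feit-Thompson -/
theorem Cn.oddA (h : Cn A S) : Odd (Nat.card A) ∧ Group.IsSolvable A ∧ ∀ a : A, Odd (orderOf a) := by
  have h1 : Odd (Nat.card A) := Nat.not_even_iff_odd.1 fun e => h.nsol
    (S0205.result (Nat.not_even_iff_odd.1 fun e' => by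
      have := Nat.eq_one_of_dvd_coprimes h.cop e.two_dvd e'.two_dvd
      omega))
  exact ⟨h1, S0205.result h1, fun a => h1.of_dvd_nat (orderOf_dvd_natCard a)⟩

/-- copy `NFS.Ce.sol_norm` (NFS/Env) -/
theorem Cn.sol_norm (h : Cn A S) : S ≠ ⊥ ∧ ∀ X : Subgroup G, X ≠ ⊥ → X ≤ S → Inv A X →
    Group.IsSolvable 𝐍[X] := by
  refine ⟨fun k => h.nsol (S0205.result ?_), fun X h1 h2 h3 => h.sol _ h3.normalizer fun k => ?_⟩
  · have := h.syl.eq_bot_iff.1 k
    rw [card_top] at this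
    exact Nat.odd_iff.2 (by omega)
  · have := h.simple
    have hn : X.Normal := normalizer_eq_top_iff.1 k
    rcases hn.eq_bot_or_eq_top with e | e
    · exact h1 e
    · have hp : IsPGroup 2 (⊤ : Subgroup G) := h.syl.pgrp.to_le (e ▸ h2)
      have := (hp.of_equiv topEquiv).isNilpotent
      exact h.nsol inferInstance

end Cfsg.Agent.CpN
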