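import Cfsg.Agent.CpN.Trans

/-!
# No small involutions on invariant sections
-/

set_option autoImplicit false
set_option linter.unusedSectionVars false

namespace Cfsg.Agent.CpN

open Cfsg.Agent.PLocal hiding centralizer_anti
open Subgroup Cfsg Cfsg.Agent.PLocal.Amb Cfsg.Agent.PLocal.TV
open Cfsg.Agent.PLocal.SL2Nat Cfsg.Agent.PLocal.Bk
open Cfsg.Agent.PLocal.CP (IsCharP MinOver ncl secCent)
open Cfsg.Agent.Solv.Ext (Inv)
open Cfsg.Agent.QT.Qrc (P2)
open Cfsg.Agent.NFS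
open scoped commutatorElement MatrixGroups Cfsg.Agent.PLocal.CP

universe u

/-- Induction on `|V|` (over all `G`).  Suppose there is an invariant normal `⊥ ≠ V₀ < V`.  If
`ρ ∉ 𝐂[V₀]` use `V₀`: `|V₀ : C_{V₀}(t)| ≤ |V : C_V(t)|` (`relIndex_le_of_le_right`).  Otherwise pass to
`G ⧸ V₀` (`exists_quotAction`, `Dec.surj`): `ρ̄ ∉ 𝐂[V̄]` (an element of odd order centralising `V₀` and
`V / V₀` centralises `V`: `odd_split`, `[V, ρ] = [V, ρ, ρ]`), and `|V̄ : C_V̄(t̄)| ≤ |V : C_V(t)|`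
(`C_V(t)` maps into `C_V̄(t̄)`).  If there is no such `V₀`: `CP.RedMod 2 𝐂[V] ⊤` holds.  (Let `K` be the
preimage of `O₂(G / 𝐂[V])`, invariant and normal; `V ≠ ⊥`, `V ⊓ 𝐂[K] ≠ ⊥` as a 2-group acts on `V`; it is
invariant and normal, so it is `V`.  Unfold `CP.RedMod`.)  `t ∉ 𝐂[V]`: otherwise the normal subgroup
`𝐂[V]` contains `⁅t, ρ⁆ = ρ⁻²`, hence `ρ`.  `Dec.two` with `H = ⊤`. -/
theorem blk_aux {A : Type*} [Group A] [Finite A] (hA : Odd (Nat.card A)) (n : ℕ) :
    ∀ (G : Type u) [Group G] [Finite G] [MulDistribMulAction A G], Dec A G → Group.IsSolvable G →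
    ∀ (V T : Subgroup G), Nat.card V = n → V.Normal → Inv A V → Inv A T → IsPGroup 2 T →
    IsElementaryAbelian 2 V → ∀ t ∈ T, t * t = 1 → ∀ ρ : G, Odd (orderOf ρ) → t * ρ * t⁻¹ = ρ⁻¹ →
    ρ ∉ 𝐂[V] → 8 ≤ (𝐜[t]).relIndex V := by
  have := Fact.mk Nat.prime_two
  induction n using Nat.strong_induction_on with | h n ih => ?_
  intro G _ _ _ h hs V T hn hN hI hT hp hV t ht t2 ρ ho hi hc
  by_cases ex : ∃ V₀ : Subgroup G, V₀.Normal ∧ Inv A V₀ ∧ V₀ ≠ ⊥ ∧ V₀ < V
  · obtain ⟨V₀, n0, i0, b0, l0⟩ := ex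
    by_cases c0 : ρ ∈ 𝐂[V₀]
    swap
    · exact (ih _ (hn ▸ Grp.card_lt_card_of_lt l0) G h hs V₀ T rfl n0 i0 hT hp (isEA_mono hV l0.le)
        t ht t2 ρ ho hi c0).trans (relIndex_le_of_le_right l0.le index_ne_zero_of_finite)
    obtain ⟨_, e⟩ := Solv.Ext.exists_quotAction i0
    have hf := QuotientGroup.mk'_surjective V₀
    have hk := QuotientGroup.ker_mk' V₀
    have e' : ∀ (a : A) (x : G), a • QuotientGroup.mk' V₀ x = QuotientGroup.mk' V₀ (a • x) := e
    generalize QuotientGroup.mk' V₀ = f at hf hk e'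
    have lt : Nat.card (V.map f) < n := by
      have k1 := card_inf_mul_relIndex V₀ V
      rw [inf_eq_left.2 l0.le, hn, ← hk, relIndex_ker, hk] at k1
      have k2 := (one_lt_card_iff_ne_bot V₀).2 b0
      have k3 : 0 < Nat.card (V.map f) := Nat.card_pos
      nlinarith
    refine (ih _ lt (G ⧸ V₀) (h.surj hf fun a x => (e' a x).symm) inferInstance (V.map f) (T.map f)
      rfl (hN.map f hf) (hI.map e') (hT.map e') (hp.map f) (isEA_map hV f) (f t)
      (mem_map_of_mem f ht) (by rw [← map_mul, t2, map_one]) (f ρ)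
      (ho.of_dvd_nat (orderOf_map_dvd f ρ)) (by rw [← map_inv, ← map_inv, ← hi, map_mul, map_mul])
      fun c => hc ?_).trans ?_
    · have k1 : ⁅V, zpowers ρ⁆ ≤ V₀ := by
        rw [← hk, ← Subgroup.map_eq_bot_iff, map_commutator, MonoidHom.map_zpowers]
        exact commutator_eq_bot_iff_le_centralizer.2 (cent_symm (zpowers_le.2 c))
      obtain ⟨-, s2, -⟩ := odd_split hV (X := zpowers ρ) (by rwa [Nat.card_zpowers])
        le_normalizer_of_normal
      rw [inf_eq_left.2 (k1.trans (cent_symm (zpowers_le.2 c0)))] at s2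
      exact cent_symm (commutator_eq_bot_iff_le_centralizer.1 s2) (mem_zpowers ρ)
    · rw [← relIndex_comap]
      refine relIndex_le_of_le_left (fun x hx => ?_) index_ne_zero_of_finite
      rw [mem_comap, mem_centralizer_singleton_iff, ← map_mul, ← map_mul,
        mem_centralizer_singleton_iff.1 hx]
  refine h.two hA (H := ⊤) le_normalizer_of_normal (fun _ _ _ => mem_top _) hI hT hp le_top
    inferInstance hV (CP.redMod_iff.2 ?_) ht t2 fun c => hc (mdd_cent ho hi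
      (le_normalizer_of_normal (mem_top ρ)) c)
  have hK : Inv A (CP.opMod 2 𝐂[V] ⊤) := fun a x hx => by
    have inj : Function.Injective (Solv.Ext.hom G a) := (MulDistribMulAction.toMulAut A G a).injective
    have : CP.opMod 2 𝐂[V] ⊤ ≤ (CP.opMod 2 𝐂[V] ⊤).comap (Solv.Ext.hom G a) :=
      sSup_le fun D hD => map_le_iff_le_comap.1 (CP.le_opMod le_top (by
        haveI := (normalizer_eq_top_iff.1 (top_le_iff.1 hD.2.1)).map (Solv.Ext.hom G a)
          (MulDistribMulAction.toMulAut A G a).surjective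
        exact le_normalizer_of_normal) (by
        rw [← map_pRes' inj]
        exact (map_mono hD.2.2).trans (hI.centralizer.map_eq a).le))
    exact this hx
  have k1 := CP.pRes_opMod_le (p := 2) (C := 𝐂[V]) (L := ⊤) le_normalizer_of_normal
  haveI := normalizer_eq_top_iff.1 (top_le_iff.1
    (CP.le_normalizer_opMod (p := 2) (C := 𝐂[V]) (L := ⊤) le_normalizer_of_normal))
  generalize CP.opMod 2 𝐂[V] ⊤ = K at *
  obtain ⟨P, hP⟩ := exists_isSyl 2 K
  have k2 : V ⊓ 𝐂[K] ≠ ⊥ := fun e => inf_centralizer_ne_bot hP.pgrp (isEA_isPGroup hV)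
    le_normalizer_of_normal (fun e => hc (by rw [e]; intro x hx; simp [mem_bot.1 hx]))
    (eq_bot_iff.2 (le_trans (le_inf inf_le_left (by
      rw [← hP.pRes_sup, Amb.centralizer_sup]
      exact inf_le_inf_right _ (cent_symm k1))) e.le))
  by_contra c
  exact ex ⟨V ⊓ 𝐂[K], inferInstance, hI.inf hK.centralizer, k2,
    lt_of_le_of_ne inf_le_left fun e => c (cent_symm (e.ge.trans inf_le_right))⟩

/-- `blk_aux` for the group `↥H` (`exists_subAction`, `Dec.inj`) and `V.subgroupOf H`, `T.subgroupOf H` -/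
theorem Dec.blk {G : Type u} [Group G] [Finite G] {A : Type*} [Group A] [Finite A]
    [MulDistribMulAction A G] (h : Dec A G) (hA : Odd (Nat.card A)) {V H T : Subgroup G}
    (hVH : V ≤ H) (hn : H ≤ 𝐍[V]) (hH : Inv A H) (hI : Inv A V) (hT : Inv A T) (hp : IsPGroup 2 T)
    (hs : Group.IsSolvable H) (hV : IsElementaryAbelian 2 V) {t ρ : G} (ht : t ∈ T) (tH : t ∈ H)
    (t2 : t * t = 1) (hρ : ρ ∈ H) (ho : Odd (orderOf ρ)) (hi : t * ρ * t⁻¹ = ρ⁻¹) (hc : ρ ∉ 𝐂[V]) :
    8 ≤ (𝐜[t]).relIndex V := by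
  obtain ⟨_, e⟩ := Solv.Ext.exists_subAction hH
  have := blk_aux hA _ H (h.inj H.subtype_injective e) hs (V.subgroupOf H) (T.subgroupOf H) rfl
    (normal_subgroupOf_of_le_normalizer hn) (hI.comap (f := H.subtype) fun a x => (e a x).symm)
    (hT.comap (f := H.subtype) fun a x => (e a x).symm) hp.comap_subtype (isEA_subgroupOf hV H)
    ⟨t, tH⟩ ht (Subtype.ext t2) ⟨ρ, hρ⟩ (by rwa [← orderOf_coe]) (Subtype.ext hi)
    (by rwa [Amb.centralizer_subgroupOf hVH])
  rwa [show 𝐜[(⟨t, tH⟩ : H)] = (𝐜[t]).subgroupOf H from Subgroup.ext fun x => by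
    rw [mem_subgroupOf, mem_centralizer_singleton_iff, mem_centralizer_singleton_iff,
      Subtype.ext_iff]; rfl, relIndex_subgroupOf hVH] at this

end Cfsg.Agent.CpN
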