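import Cfsg.Agent.CpN.Defs
import Cfsg.Agent.NFS.DhD
import Cfsg.Agent.NFS.DhE

/-!
# The dihedral chain keeps its first block (sharpened copies from NFS/DhC, DhE)
-/

set_option autoImplicit false
set_option linter.unusedSectionVars false

namespace Cfsg.Agent.CpN

open Cfsg.Agent.PLocal hiding centralizer_anti
open Subgroup Cfsg Cfsg.Agent.PLocal.Amb Cfsg.Agent.PLocal.TV
open Cfsg.Agent.PLocal.SL2Nat Cfsg.Agent.PLocal.Bk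
open Cfsg.Agent.PLocal.CP (IsCharP MinOver ncl secCent)
open Cfsg.Agent.Solv.Ext (Inv)
open Cfsg.Agent.QT.Qrc (P2)
open Cfsg.Agent.NFS
open scoped commutatorElement MatrixGroups Cfsg.Agent.PLocal.CP

variable {G : Type*} [Group G] [Finite G] {S W L Y D : Subgroup G} {r f z : G}

theorem pr_tilde (h : Pr S Y D r f z) : ∃ (D₁ : Subgroup G) (r₁ : G), Pr S Y D₁ r₁ f z ∧
    S ⊓ 𝐍[Y] ⊓ 𝐜[z] ≤ 𝐍[D₁] ∧ D ≤ D₁ := by
  by_cases c : S ⊓ 𝐍[Y] ⊓ 𝐜[z] ≤ 𝐍[D]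
  · exact ⟨D, r, h, c, le_rfl⟩
  obtain ⟨u, hu, un⟩ := SetLike.not_le_iff_exists.1 c
  obtain ⟨s, hs, hs'⟩ := h.dd.dh.ex
  have k : NFS.Cn S Y (fg z s) D _ r f z := ⟨h, rfl, h.dd.cj s hs hs'⟩
  have ne := mt cj_eq_iff.1 un
  obtain ⟨r₁, p⟩ := k.sup (k.cj hu) ne
  have le : ∀ v ∈ S ⊓ 𝐍[Y] ⊓ 𝐜[z], cj(v, D) ≤ D ⊔ cj(u, D) := fun v hv => by
    by_cases e : cj(v, D) = D
    · exact e.le.trans le_sup_left
    · exact (k.uniq (k.cj hu) (k.cj hv) ne e).le.trans le_sup_right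
  refine ⟨_, r₁, p, fun v hv => mem_normalizer_of_cj_le ?_, le_sup_left⟩
  rw [cj_sup, ← cj_mul]
  exact sup_le (le v hv) (le _ (mul_mem hv hu))

theorem bl_start (h : Bl S W L 2) {σ : G} (hσ : σ ∈ S ⊓ 𝐍[𝐉[2, S ⊓ 𝐍[W]]]) (h2 : σ * σ = 1)
    (hn : ¬ cj(σ, W) ≤ 𝐂[W]) : ∃ (D : Subgroup G) (r f z : G), Pr S 𝐉[2, S ⊓ 𝐍[W]] D r f z ∧
      ∃ t ∈ D, t ∉ zpowers r ∧ fg z t = W := by
  have k := h.rk
  have k' := k.cj hσ.2
  have h' := h.cj hσ.1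
  have σi : σ⁻¹ = σ := inv_eq_of_mul_eq_one_right h2
  have eJ : 𝐉[2, S ⊓ 𝐍[cj(σ, W)]] = 𝐉[2, S ⊓ 𝐍[W]] := by
    rw [normalizer_cj, ← cj_of_mem hσ.1, ← cj_inf, thompson_cj, cj_of_mem hσ.1, cj_of_mem_normalizer hσ.2]
  have JT : 𝐉[2, S ⊓ 𝐍[W]] ≤ S ⊓ 𝐍[W] := thompsonSubgroupOf_le _
  have TJ : S ⊓ 𝐍[W] ≤ 𝐍[𝐉[2, S ⊓ 𝐍[W]]] := le_normalizer_thompsonSubgroupOf _
  have nq' := h'.nq
  rw [eJ] at nq'
  have TR : S ⊓ 𝐍[W] ≤ 𝐉[2, S ⊓ 𝐍[W]] ⊔ (S ⊓ 𝐂[W]) := (le_inf le_rfl (relIndex_eq_one.1 (by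
    have := h.fld
    have := relIndex_pos (secCent (W ⊓ 𝐂[𝐉[2, S ⊓ 𝐍[W]]]) (W ⊓ 𝐂[L])) (S ⊓ 𝐍[W])
    omega))).trans h.rt
  have mJ := mx_J (S ⊓ 𝐍[W])
  have mJ' := mx_J (S ⊓ 𝐍[cj(σ, W)])
  rw [eJ] at mJ'
  have nq := h.nq
  generalize hJ : 𝐉[2, S ⊓ 𝐍[W]] = J at k k' hσ eJ JT TJ nq' TR mJ mJ' ⊢
  obtain ⟨c4, c2, -, hρ⟩ := k.two
  obtain ⟨e1, e2⟩ := k.nc k' hn
  obtain ⟨z, z1, z2, ez⟩ := exists_eq_zpowers_of_card_prime c2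
  rw [pow_two] at z2
  have zZ := k.zw.1 (ez.ge (mem_zpowers z))
  have zZ' := k'.zw.1 ((e2.trans ez).ge (mem_zpowers z))
  have zJ : z ∈ 𝐂[J] := CP.omegaZ_le_centralizer _ zZ.2
  have σz : σ * z * σ⁻¹ = z := by
    have : σ * z * σ⁻¹ ∈ zpowers z := by
      rw [← ez, ← e2, ← cj_of_mem_normalizer hσ.2, commutator_cj, ez]
      exact conj_mem_cj σ (mem_zpowers z)
    exact (dhE_zp z2 this).resolve_left fun e => z1 (by simpa using e)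
  obtain ⟨_, ⟨t, ht, rfl⟩, uC⟩ := SetLike.not_le_iff_exists.1 hn
  change σ * t * σ⁻¹ ∉ _ at uC
  have hu : σ * t * σ⁻¹ ∈ cj(σ, W) := conj_mem_cj σ ht
  have σu : σ * (σ * t * σ⁻¹) * σ⁻¹ = t := by
    rw [σi, ← mul_assoc, ← mul_assoc, h2, one_mul, mul_assoc, h2, mul_one]
  generalize eu : σ * t * σ⁻¹ = u at uC hu σu
  have zC : zpowers z ≤ 𝐂[W] := zpowers_le.2 (Amb.centralizer_anti k.WJ zJ)
  have uz : u ∉ zpowers z := fun e => uC (zC e)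
  have tz : t ∉ zpowers z := fun e => uz (by
    rcases dhE_zp z2 e with e | e <;> rw [← eu, e]
    · simp
    · exact σz.symm ▸ mem_zpowers z)
  obtain ⟨l1, f1⟩ := dhE_four k.ea c4 zZ.1 z1 ht tz
  obtain ⟨l2, f2⟩ := dhE_four k'.ea k'.two.1 zZ'.1 z1 hu uz
  have tt : t * t = 1 := pow_two t ▸ k.ea.2 t ht
  have uu : u * u = 1 := pow_two u ▸ k'.ea.2 u hu
  have uJ := k'.WJ hu
  have zt : z * t = t * z := (zJ t (k.WJ ht)).symm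
  have ff : t * u * (t * u) = z := by
    have e : t * u * (t * u) = ⁅t, u⁆ := by
      rw [commutatorElement_def, inv_eq_of_mul_eq_one_right tt, inv_eq_of_mul_eq_one_right uu, mul_assoc _ t]
    refine (dhE_zp z2 (e ▸ ez.le (commutator_mem_commutator ht uJ))).resolve_left fun e' => uC ?_
    rw [← f1, fg, Amb.centralizer_sup, Amb.centralizer_zpowers, Amb.centralizer_zpowers]
    exact ⟨mem_centralizer_singleton_iff.2 (zJ u uJ), mem_centralizer_singleton_iff.2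
      (commutatorElement_eq_one_iff_mul_comm.1 (e ▸ e')).symm⟩
  have DJ : W ⊔ cj(σ, W) ≤ J := sup_le k.WJ k'.WJ
  obtain ⟨dh, key⟩ := dhE_dh (k.pg.to_le DJ) (k'.WJ.trans (k.JL.trans k.nW)) z2 z1 tt uu ht hu zt ff l1 l2
  obtain ⟨ρ, ρE, -, ρu, ρW⟩ := hρ u uJ uC uu
  have WR : W ≤ S ⊓ 𝐂[W] := le_inf (k.WJ.trans (JT.trans inf_le_left)) (isEA_le_centralizer k.ea)
  have RΓ : S ⊓ 𝐂[W] ≤ W ⊔ (S ⊓ 𝐂[W] ⊓ 𝐜[ρ]) := fun x hx => by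
    obtain ⟨w, hw, e⟩ := dhE_split (k.nW (pRes_le 2 L ρE)) ρW (h.cmR (commutator_mem_commutator hx ρE))
    rw [← mul_inv_cancel_left w x]
    exact mul_mem_sup hw ⟨(S ⊓ 𝐂[W]).mul_mem ((S ⊓ 𝐂[W]).inv_mem (WR hw)) hx, e⟩
  have TW' : S ⊓ 𝐍[W] ≤ 𝐍[cj(σ, W)] := fun γ hγ => by
    have k'' := k'.cj (TJ hγ)
    have n : ¬ cj(γ, cj(σ, W)) ≤ 𝐂[W] := by
      rwa [← cj_of_mem_normalizer (Amb.normalizer_le_normalizer_centralizer W hγ.2), cj_le_cj_iff]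
    have := k'.same k'' (k.uniq k' k'' hn n) ((k.nc k'' n).2.trans e2.symm)
    refine nq' ⟨hγ.1, cj_eq_iff.1 ?_⟩
    rw [cj_inf, cj_of_mem_normalizer (TJ hγ), ← centralizer_cj, this]
  have zΓ : z ∉ S ⊓ 𝐂[W] ⊓ 𝐜[ρ] := fun e => z1 (mem_bot.1 (ρW.le ⟨zZ.1, e.2⟩))
  have Γu : S ⊓ 𝐂[W] ⊓ 𝐜[ρ] ≤ 𝐜[u] := fun γ hγ => by
    have m1 : ⁅γ, u⁆ ∈ S ⊓ 𝐂[W] ⊓ 𝐜[ρ] := by
      have n : u ∈ 𝐍[S ⊓ 𝐂[W] ⊓ 𝐜[ρ]] := by
        rw [← cj_eq_iff, cj_inf, cj_inf, cj_of_mem (JT uJ).1, ← centralizer_cj, cj_of_mem_normalizer (JT uJ).2,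
          ← centralizer_singleton_conj, ρu, ← Amb.centralizer_zpowers, zpowers_inv, Amb.centralizer_zpowers]
      have := mul_mem hγ (Amb.conj_mem_of_mem_normalizer n (inv_mem hγ))
      rwa [← mul_assoc, ← mul_assoc] at this
    have m2 : ⁅γ, u⁆ ∈ cj(σ, W) := mul_mem (Amb.conj_mem_of_mem_normalizer
      (TW' ⟨hγ.1.1, centralizer_le_normalizer' W hγ.1.2⟩) hu) (inv_mem hu)
    rcases l2 _ m2 with e | e | e | e
    · exact mem_centralizer_singleton_iff.2 (commutatorElement_eq_one_iff_mul_comm.1 e)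
    · exact absurd (e ▸ m1) zΓ
    · exact absurd (e ▸ m1.1.2) uC
    · exact absurd ((mul_mem_cancel_left (zC (mem_zpowers z))).1 (e ▸ m1.1.2)) uC
  have Γt : S ⊓ 𝐂[W] ⊓ 𝐜[ρ] ≤ 𝐜[t] := fun γ hγ => mem_centralizer_singleton_iff.2 (hγ.1.2 t ht).symm
  have b : Fb S z t (t * u) (S ⊓ 𝐂[W] ⊓ 𝐜[ρ]) := by
    refine ⟨inf_le_left.trans inf_le_left, fun γ hγ => mem_centralizer_singleton_iff.2
      (Commute.mul_right (mem_centralizer_singleton_iff.1 (Γt hγ)) (mem_centralizer_singleton_iff.1 (Γu hγ))),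
      Γt, zΓ, ?_, f1.symm ▸ nq⟩
    have m1 : t * u ∈ zpowers (t * u) ⊔ zpowers t := mem_sup_left (mem_zpowers _)
    have m2 : t ∈ zpowers (t * u) ⊔ zpowers t := mem_sup_right (mem_zpowers _)
    have m3 : zpowers z ≤ zpowers (t * u) ⊔ zpowers t := zpowers_le.2 (ff ▸ mul_mem m1 m1)
    have R' := RΓ.trans (sup_le_sup_right (f1.ge.trans (sup_le m3 (zpowers_le.2 m2))) _)
    rw [f1]
    exact TR.trans (sup_le (e1.ge.trans (sup_le (le_sup_of_le_left (f2.ge.trans (sup_le m3 (zpowers_le.2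
      ((mul_mem_cancel_left m2).1 m1))))) ((inf_le_inf_right _ (JT.trans inf_le_left)).trans R'))) R')
  have b' := b.map (MulAut.conj σ) (cj_of_mem hσ.1)
  rw [map_mul, MulAut.conj_apply, MulAut.conj_apply, MulAut.conj_apply, σz, eu, σu, show u * t = (t * u)⁻¹ by
    rw [mul_inv_rev, inv_eq_of_mul_eq_one_right tt, inv_eq_of_mul_eq_one_right uu]] at b'
  obtain ⟨s₀, s1, s2⟩ := dh.ex
  have tf : t ∉ zpowers (t * u) := fun e => z1 (by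
    have c : t * u * t = t * (t * u) := (mem_centralizer_singleton_iff.1
      (zpowers_le.2 (mem_centralizer_singleton_iff.2 rfl) e : t ∈ 𝐜[t * u])).symm
    rw [← ff, ← mul_assoc, c, ← mul_assoc, tt, one_mul, uu])
  have uf : u ∉ zpowers (t * u) := fun e => tf ((mul_mem_cancel_right e).1 (mem_zpowers _))
  have all : ∀ s ∈ W ⊔ cj(σ, W), s ∉ zpowers (t * u) → (∃ Γ, Fb S z s (t * u) Γ) ∧
      (fg z s = W ∨ fg z s = cj(σ, W)) := fun s h1 h2 => by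
    rcases key s h1 h2 with e | e
    · obtain ⟨a1, a2⟩ := Fb.congr dh (mem_sup_left ht) tf b e (.inl rfl)
      exact ⟨⟨_, a1⟩, .inl (a2.trans f1)⟩
    · obtain ⟨a1, a2⟩ := Fb.congr dh (mem_sup_right hu) uf b'.dhE_inv e (.inl rfl)
      exact ⟨⟨_, a1⟩, .inr (a2.trans f2)⟩
  refine ⟨_, _, _, z, ⟨⟨h.pg, dh, DJ.trans (JT.trans inf_le_left), fun s h1 h2 => (all s h1 h2).1,
    fun s h1 h2 s' h3 h4 => ?_⟩, JT.trans inf_le_left, k.jj, DJ,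
    Amb.le_normalizer_sup (k.JL.trans k.nW) (k'.JL.trans k'.nW), fun s h1 h2 => ?_, fun s h1 h2 => ?_⟩,
    t, mem_sup_left ht, tf, f1⟩
  · rcases (all s h1 h2).2 with e | e <;> rcases (all s' h3 h4).2 with e' | e' <;> rw [e, e']
    exacts [⟨1, one_mem _, cj_one _⟩, ⟨σ, hσ.1, rfl⟩, ⟨σ⁻¹, inv_mem hσ.1, cj_inv_cj _ _⟩,
      ⟨1, one_mem _, cj_one _⟩]
  · rcases (all s h1 h2).2 with e | e <;> rw [e]
    exacts [hJ.le, eJ.le]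
  · rcases (all s h1 h2).2 with e | e <;> rw [e]
    exacts [mJ.le, mJ'.le]

end Cfsg.Agent.CpN
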