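import Cfsg.Agent.CpN.Blk
import Cfsg.Agent.NFS.RkB
import Cfsg.Agent.NFS.Env

/-!
# Rank one data over `J(S)`

`W^a = W.map (hom G a)`; `Rk J W^a L^a q` by `Rk.map` (`hom_injective`, `Inv.map_eq`; see `NFS.Ce.top2` in
NFS/TopB).  Read NFS/RkA, RkB.
-/

set_option autoImplicit false
set_option linter.unusedSectionVars false

namespace Cfsg.Agent.CpN

open Cfsg.Agent.PLocal hiding centralizer_anti
open Subgroup Cfsg Cfsg.Agent.PLocal.Amb Cfsg.Agent.PLocal.TV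
open Cfsg.Agent.PLocal.SL2Nat Cfsg.Agent.PLocal.Bk
open Cfsg.Agent.PLocal.CP (IsCharP MinOver ncl secCent)
open Cfsg.Agent.Solv.Ext (Inv)
open Cfsg.Agent.QT.Qrc (P2)
open Cfsg.Agent.NFS
open scoped commutatorElement MatrixGroups Cfsg.Agent.PLocal.CP

open Cfsg.Agent.Solv.Ext (hom)

variable {G : Type*} [Group G] [Finite G] {A : Type*} [Group A] [Finite A] [MulDistribMulAction A G]
  {S J W L Y D D' : Subgroup G} {q : ℕ} {r f z r' f' t t' : G}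

theorem k1_map (h : Rk J W L q) (iJ : Inv A J) (a : A) :
    Rk J (W.map (hom G a)) (L.map (hom G a)) q := by
  have := h.map (Solv.Ext.hom_injective a)
  rwa [iJ.map_eq] at this

theorem k1_mm (W : Subgroup G) (a b : A) :
    (W.map (hom G a)).map (hom G b) = W.map (hom G (b * a)) := by
  rw [map_map]
  congr 1
  ext x
  exact (mul_smul b a x).symm

theorem k1_one (W : Subgroup G) : W.map (hom G (1 : A)) = W := by
  have : hom G (1 : A) = MonoidHom.id G := MonoidHom.ext fun x => one_smul A x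
  rw [this, map_id]

theorem k1_cent {a : A} {x : G} : a • x ∈ 𝐂[W.map (hom G a)] ↔ x ∈ 𝐂[W] :=
  mem_centralizer_map (f := hom G a) (Solv.Ext.hom_injective a)

/-- Suppose `W^a ≰ 𝐂[W]`.  Applying `a⁻¹`: `W ≰ 𝐂[W^{a⁻¹}]`, so `W^{a⁻¹} ≰ 𝐂[W]`.  `Rk.uniq`: `W^a`, `W^{a⁻¹}`
commute; `Rk.nc`: they have the same `⁅·, J⁆`; `Rk.same`: `J ⊓ 𝐂[W^a] = J ⊓ 𝐂[W^{a⁻¹}]`.  So `a²` fixes
`Q = J ⊓ 𝐂[W]`, hence so does `a` (odd order; stabiliser of `Q`), and `W^a ≤ Q^a = Q` (`Rk.WQ`). -/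
theorem rk_comm (h : Rk J W L q) (iJ : Inv A J) {a : A} (ho : Odd (orderOf a)) :
    W.map (hom G a) ≤ 𝐂[W] := by
  by_contra hn
  have hn' : ¬ W.map (hom G a⁻¹) ≤ 𝐂[W] := fun k => hn (le_centralizer_iff.1 fun w hw => by
    have := k1_cent (a := a) |>.2 (k (mem_map_of_mem (hom G a⁻¹) hw))
    rwa [Solv.Ext.hom_apply, smul_inv_smul] at this)
  have h1 := k1_map h iJ a
  have h2 := k1_map h iJ a⁻¹
  have e := h1.same h2 (h.uniq h1 h2 hn hn') ((h.nc h2 hn').2.trans (h.nc h1 hn).2.symm)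
  have k : ∀ x ∈ J ⊓ 𝐂[W], (a⁻¹ * a⁻¹) • x ∈ J ⊓ 𝐂[W] := fun x hx => by
    have k1 := e.le ⟨iJ a⁻¹ x hx.1, k1_cent.2 hx.2⟩
    refine ⟨iJ _ x hx.1, (k1_cent (a := a)).1 ?_⟩
    rw [mul_smul, smul_inv_smul]
    exact k1.2
  have k' : ∀ n : ℕ, ∀ x ∈ J ⊓ 𝐂[W], (a⁻¹ * a⁻¹) ^ n • x ∈ J ⊓ 𝐂[W] := fun n => by
    induction n with
    | zero => intro x hx; rwa [pow_zero, one_smul]
    | succ n ih => intro x hx; rw [pow_succ, mul_smul]; exact ih _ (k x hx)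
  obtain ⟨n, hn2⟩ := ho
  have ea : (a⁻¹ * a⁻¹) ^ n = a := by
    rw [← pow_two, ← pow_mul, inv_pow, inv_eq_iff_mul_eq_one, ← pow_succ, ← hn2, pow_orderOf_eq_one]
  refine hn ?_
  rintro _ ⟨w, hw, rfl⟩
  have := k' n w (h.WQ hw)
  rw [ea] at this
  exact this.2

/-- `D.im L = (slG F).range` is a homomorphic image of `L`, so `SL₂(F)` is solvable; it is perfect and
nontrivial for `|F| > 3` (`ca find` `pRes_range`, `SLi`, perfect); `|F|` is a power of 2. -/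
theorem rk_two (h : Rk J W L q) (hs : Group.IsSolvable L) : q = 2 := by
  obtain ⟨F, _, _, _, D, hq, hN, hL, hB, hk, hH⟩ := h.sd
  obtain ⟨ρ, hρ, -⟩ := D.exists_hom (slG_injective F) hN (R := ⊤) (hL.trans PL.map_top.symm)
  have h1 := Group.isSolvable_of_surjective (MonoidHom.range_eq_top.1 hρ)
  have h2 := h.two_le
  have h3 : ¬ 3 < Nat.card F := fun k => by
    have : Group.IsPerfect SL(2, F) := ⟨PL.comm_eq_top k⟩
    have : Nontrivial SL(2, F) := ⟨uu 1, 1, fun e => one_ne_zero (uu_eq_one_iff.1 e)⟩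
    exact Group.IsPerfect.not_isSolvable SL(2, F) h1
  have h4 : Nat.card F ≠ 3 := fun k => by
    have k1 := PL.three_eq_zero k
    have k2 : (2 : F) = 0 := CharP.cast_eq_zero F 2
    exact one_ne_zero (α := F) (by linear_combination k1 - k2)
  omega

/-- Replacement.  `Ŵ = ⨆ a, W^a` is abelian (`rk_comm`).  Among the `B ∈ maxEA 2 J` with `B ≰ 𝐂[W]`
(`Rk.exA`) take one with `Ŵ ⊓ 𝐂[B]` maximal.  Let `W' = W^a`.  If `⁅W', J⁆ = ⁅W, J⁆`: `Rk.same`.  Otherwise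
`B ≤ 𝐂[W']`.  If not, `B' = (B ⊓ 𝐂[W']) ⊔ W' ∈ maxEA` (`Rk.full`) and `Ŵ ⊓ 𝐂[B'] > Ŵ ⊓ 𝐂[B]` (it contains
`W'`), so `B' ≤ 𝐂[W]`; then `B ⊓ 𝐂[W'] = B ⊓ 𝐂[W]` (same index `q`), `Rk.sle` both ways, and
`⁅W', J⁆ = ⁅W', B⁆ = ⁅W, B⁆ = ⁅W, J⁆` (copy the ends of `Rk.com`, `Rk.dich`). -/
theorem rk_small (h : Rk J W L q) (iJ : Inv A J) (ho : ∀ a : A, Odd (orderOf a)) :
    ∃ B ∈ maxEA 2 J, ¬ B ≤ 𝐂[W] ∧ ∀ a : A, B ⊓ 𝐂[W] ≤ 𝐂[W.map (hom G a)] := by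
  have hw : ∀ b : A, (⨆ a : A, W.map (hom G a)) ≤ 𝐂[W.map (hom G b)] := fun b => iSup_le fun a => by
    have := rk_comm (k1_map h iJ b) iJ (ho (a * b⁻¹))
    rwa [k1_mm, inv_mul_cancel_right] at this
  obtain ⟨B, ⟨hB, hn⟩, hm⟩ := Set.exists_max_image {B | B ∈ maxEA 2 J ∧ ¬ B ≤ 𝐂[W]}
    (fun B => Nat.card ↥((⨆ a : A, W.map (hom G a)) ⊓ 𝐂[B])) (Set.toFinite _) h.exA
  refine ⟨B, hB, hn, fun a => ?_⟩
  have h' := k1_map h iJ a
  by_cases c : B ≤ 𝐂[W.map (hom G a)]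
  · exact inf_le_left.trans c
  have hB' := (h'.full hB c).2.2.2.1
  have c' : (B ⊓ 𝐂[W.map (hom G a)]) ⊔ W.map (hom G a) ≤ 𝐂[W] := by
    by_contra c'
    have k := PLocal.eq_of_le_of_card_le (le_inf inf_le_left (by
      rw [Amb.centralizer_sup]
      exact le_inf (inf_le_right.trans (Amb.centralizer_anti inf_le_left))
        (inf_le_left.trans (hw a)))) (hm _ ⟨hB', c'⟩)
    refine c (le_centralizer_iff.1 (le_trans ?_ (k.ge.trans inf_le_right)))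
    exact le_inf (le_iSup (fun a : A => W.map (hom G a)) a)
      (le_sup_right.trans (isEA_le_centralizer hB'.2.1))
  have e : B ⊓ 𝐂[W.map (hom G a)] = B ⊓ 𝐂[W] := by
    refine PLocal.eq_of_le_of_card_le (le_inf inf_le_left (le_sup_left.trans c')) ?_
    have k1 := card_inf_mul_relIndex 𝐂[W] B
    have k2 := card_inf_mul_relIndex 𝐂[W.map (hom G a)] B
    rw [(h.full hB hn).2.1, inf_comm] at k1
    rw [(h'.full hB c).2.1, inf_comm, ← k1] at k2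
    exact (Nat.eq_of_mul_eq_mul_right (lt_of_lt_of_le two_pos h.two_le) k2).ge
  exact e.ge.trans inf_le_right

/-- `J = 𝐉[2, S]` is invariant (`env_inv_J`).  `Q = J ⊓ ⨅ a, 𝐂[W^a]` is invariant, `W ≤ Q` (`rk_comm`),
`W ≠ ⊥`, `H = 𝐍[Q]` is solvable (`Cn.sol_norm`).  `J ≤ H` (`J ≤ L^a ≤ 𝐍[W^a]`), `𝐎[2, L] ≤ H`
(`[Q, 𝐎[2, L]] ≤ W ≤ Q` by `cm`), so `L ≤ H` (`gen`), `q = 2` (`rk_two`).  `B` from `rk_small`,
`u ∈ B \ 𝐂[W]`, `ρ` from `Rk.two`, `V = 𝐙[Q] ≥ W` (`env_inv_Z`), `ρ ∉ 𝐂[V]`.  `B ⊓ 𝐂[W] ≤ Q ≤ 𝐂[V]`, so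
`|V : C_V(u)| ≤ |V : C_V(B)| ≤ |B : C_B(V)| ≤ |B : C_B(W)| = 2` (`relIndex_le_of_member`, `Rk.full`).
This contradicts `Dec.blk` with `T = S`. -/
theorem Cn.k1 (c : Cn A S) (h : Rk 𝐉[2, S] W L q) : False := by
  have iJ := env_inv_J c.inv
  have JS : 𝐉[2, S] ≤ S := thompsonSubgroupOf_le S
  generalize 𝐉[2, S] = J at h iJ JS
  obtain ⟨hA, -, ho⟩ := c.oddA
  obtain ⟨Q, hQ⟩ : ∃ Q, Q = J ⊓ ⨅ a : A, 𝐂[W.map (hom G a)] := ⟨_, rfl⟩
  have QJ : Q ≤ J := hQ.le.trans inf_le_left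
  have Qa : ∀ a : A, Q ≤ 𝐂[W.map (hom G a)] := fun a =>
    hQ.le.trans (inf_le_right.trans (iInf_le _ a))
  have mQ : ∀ x ∈ J, (∀ a : A, x ∈ 𝐂[W.map (hom G a)]) → x ∈ Q := fun x h1 h2 =>
    hQ.ge ⟨h1, mem_iInf.2 h2⟩
  have QW : Q ≤ 𝐂[W] := by
    have := Qa 1
    rwa [k1_one] at this
  have iQ : Inv A Q := fun b x hx => mQ _ (iJ b x (QJ hx)) fun a => by
    have := (k1_cent (a := b)).2 (Qa (b⁻¹ * a) hx)
    rwa [k1_mm, mul_inv_cancel_left] at this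
  have WQ : W ≤ Q := fun w hw => mQ w (h.WJ hw) fun a =>
    le_centralizer_iff.1 (rk_comm h iJ (ho a)) hw
  obtain ⟨B, hB, hn, hs⟩ := rk_small h iJ ho
  have W0 : W ≠ ⊥ := fun k => hn (le_centralizer_iff.1 (k.le.trans bot_le))
  have sol := c.sol_norm.2 Q (fun k => W0 (eq_bot_iff.2 (WQ.trans k.le))) (QJ.trans JS) iQ
  have JH : J ≤ 𝐍[Q] := le_normalizer_iff_commutator_le_left.2 (commutator_le.2 fun x hx y hy =>
    mQ _ (J.mul_mem (J.mul_mem (J.mul_mem (QJ hx) hy) (J.inv_mem (QJ hx))) (J.inv_mem hy)) fun a => by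
      rw [commutatorElement_def, mul_assoc, mul_assoc, ← mul_assoc y]
      exact mul_mem (Qa a hx) (Amb.conj_mem_of_mem_normalizer (le_normalizer_centralizer
        ((k1_map h iJ a).JL.trans (k1_map h iJ a).nW) hy) (inv_mem (Qa a hx))))
  have EH : 𝐎[2, L] ≤ 𝐍[Q] := le_normalizer_iff_commutator_le_left.2
    (((commutator_mono (le_inf QJ QW) le_rfl).trans h.cm).trans WQ)
  obtain rfl := rk_two h (Solv.isSolvable_of_le (h.gen.trans (sup_le EH JH)) sol)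
  obtain ⟨u, hu, hu'⟩ := SetLike.not_le_iff_exists.1 hn
  have uu : u * u = 1 := by rw [← pow_two]; exact (isEA_iff.1 hB.2.1).2 u hu
  obtain ⟨ρ, hρ, r1, r2, r3⟩ := h.two.2.2.2 u (hB.1 hu) hu' uu
  have WV : W ≤ 𝐙[Q] := CP.le_omegaZ h.ea WQ (cent_symm QW)
  have k := c.toDec.blk hA ((CP.omegaZ_le Q).trans le_normalizer)
    (CP.normalizer_le_normalizer_omegaZ Q) iQ.normalizer (env_inv_Z iQ) c.inv c.syl.pgrp sol
    (CP.omegaZ_isEA Q) (JS (hB.1 hu)) (JH (hB.1 hu)) uu (EH hρ) r1 r2 fun k => W0 (by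
      rw [← r3]
      exact (inf_eq_left.2 fun w hw => mem_centralizer_singleton_iff.2
        (mem_centralizer_iff.1 k w (WV hw))).symm)
  have k1 : (𝐜[u]).relIndex 𝐙[Q] ≤ (𝐂[B]).relIndex 𝐙[Q] :=
    relIndex_le_of_le_left (fun x hx => mem_centralizer_singleton_iff.2
      (mem_centralizer_iff.1 hx u hu).symm) (relIndex_pos _ _).ne'
  have k2 := relIndex_le_of_member hB (CP.omegaZ_isEA Q) ((CP.omegaZ_le Q).trans QJ)
  have k3 : (𝐂[𝐙[Q]]).relIndex B ≤ (𝐂[W]).relIndex B := by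
    rw [← inf_relIndex_right 𝐂[W] B]
    refine relIndex_le_of_le_left ?_ (relIndex_pos _ _).ne'
    exact le_trans (fun x hx => mQ x (hB.1 hx.2) fun a => hs a ⟨hx.2, hx.1⟩)
      (CP.le_centralizer_omegaZ _)
  have k4 := (h.full hB hn).2.1
  omega

end Cfsg.Agent.CpN
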