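import Cfsg.Agent.CpN.K2a
import Cfsg.Agent.CpN.Blk
import Cfsg.Agent.NFS.Env

/-!
# The end of the dihedral chain

Read NFS/DhA, DhB.  `W = fg z t`, `W^a = W.map (hom G a) = fg (a • z) (a • t)` (`fg_map`), a four-group of the
link `D^a` (`Pr.map`).
-/

set_option autoImplicit false
set_option linter.unusedSectionVars false

namespace Cfsg.Agent.CpN

open Cfsg.Agent.PLocal hiding centralizer_anti
open Subgroup Cfsg Cfsg.Agent.PLocal.Amb Cfsg.Agent.PLocal.TV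
open Cfsg.Agent.PLocal.SL2Nat Cfsg.Agent.PLocal.Bk
open Cfsg.Agent.PLocal.CP (IsCharP MinOver ncl secCent)
open Cfsg.Agent.Solv.Ext (Inv)
open Cfsg.Agent.QT.Qrc (P2)
open Cfsg.Agent.NFS
open scoped commutatorElement MatrixGroups Cfsg.Agent.PLocal.CP

open Cfsg.Agent.Solv.Ext (hom)

variable {G : Type*} [Group G] [Finite G] {A : Type*} [Group A] [Finite A] [MulDistribMulAction A G]
  {S J W L Y D D' : Subgroup G} {q : ℕ} {r f z r' f' t t' : G}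

/-- If `a • z ≠ z`: `W^a ≤ D^a ≤ 𝐂[D]` (`Pr.ne`).  If `a • z = z`: `pr_comm`, `D^a ≤ 𝐜[z]`; `a • t` inverts
`f ∈ ⟨r⟩` (`pr_inv`), so `f (a • t) f⁻¹ = f² (a • t) = z (a • t)`, `f z f⁻¹ = z`. -/
theorem pr_fg (h : Pr S Y D r f z) (iS : Inv A S) (iY : Inv A Y) {a : A} (ho : Odd (orderOf a))
    (ht : t ∈ D) (ht' : t ∉ zpowers r) :
    (fg z t).map (hom G a) ≤ 𝐂[fg z t] ∧ f ∈ 𝐍[(fg z t).map (hom G a)] := by
  have h' := h.map (MulDistribMulAction.toMulAut A G a) (iS.map_eq a) (iY.map_eq a)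
  have m : a • t ∈ D.map (hom G a) := ⟨t, ht, rfl⟩
  have m' : a • t ∉ zpowers (a • r) := fun ⟨k, hk⟩ =>
    ht' ⟨k, MulAction.injective a ((map_zpow (hom G a) r k).trans hk)⟩
  obtain ⟨w1, -, w2, w3, -⟩ := h.dd.dh.fg ht ht'
  rw [fg_map]
  by_cases hz : a • z = z
  swap
  · have k := (h'.dd.dh.fg m m').2.2.1.trans (h.ne h' hz).1
    exact ⟨k.trans (centralizer_le w2),
      centralizer_le_normalizer _ (le_centralizer_iff.1 k h.dd.dh.basic.1)⟩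
  have c1 : a • t * a • z = a • z * a • t :=
    mem_centralizer_singleton_iff.1 (h'.dd.dh.basic.2.2.2.2.2.1 m)
  have c2 := pr_comm h iS iY ho hz ht ht'
  have c3 := pr_inv h (show Pr S Y _ (a • r) (a • f) z from hz ▸ h') m m'
  rw [hz] at c1
  rw [Solv.Ext.hom_apply, Solv.Ext.hom_apply, hz]
  refine ⟨sup_le (zpowers_le.2 (isEA_le_centralizer w1 ((w3 z).2 (by simp))))
    (zpowers_le.2 fun w hw => ?_), mem_normalizer_of_cj_le ?_⟩
  · rcases (w3 w).1 hw with rfl | rfl | rfl | rfl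
    · simp
    · exact c1.symm
    · exact c2
    · rw [mul_assoc, c2, ← mul_assoc, ← c1, mul_assoc]
  have c4 : a • t * f⁻¹ * (a • t)⁻¹ = f := by
    obtain ⟨k, rfl⟩ := h.dd.dh.fr
    rw [← zpow_neg, ← conj_zpow, c3, inv_zpow', neg_neg]
  rw [fg_map]
  refine sup_le (zpowers_le.2 ?_) (zpowers_le.2 ?_)
  · change f * z * f⁻¹ ∈ _
    rw [mem_centralizer_singleton_iff.1 (h.dd.dh.basic.2.2.2.2.2.1 h.dd.dh.basic.1),
      mul_inv_cancel_right]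
    exact mem_sup_left (mem_zpowers z)
  · change f * a • t * f⁻¹ ∈ _
    rw [mul_assoc, eq_mul_of_mul_inv_eq c4, ← mul_assoc, h.dd.dh.ff]
    exact mul_mem_sup (mem_zpowers z) (mem_zpowers _)

/-- `Q = S ⊓ ⨅ a, 𝐂[W^a]` is invariant, `W ≤ Q ≤ S ⊓ 𝐂[W]` (`pr_fg`), `H = 𝐍[Q]` is solvable
(`Cn.sol_norm`), `ρ ∈ H` (`[Q, ρ] ≤ W ≤ Q`), `u = t f ∈ S ⊓ H` is an involution (`Dh.inv`).  `V = 𝐙[Q] ≥ W`
(`env_inv_Z`), `ρ ∉ 𝐂[V]`.  `V ≤ S ⊓ 𝐂[W] ≤ W ⊔ Γ` (`Fb.cent`), `Γ` centralises `t`, `f`, and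
`⁅w, u⁆ ∈ ⟨z⟩` for `w ∈ W`; so `⁅V, zpowers u⁆ ≤ zpowers z` and `|V : C_V(u)| ≤ 2` (`card_comm_inv`).  This
contradicts `Dec.blk` with `T = S`. -/
theorem Cn.k2 (c : Cn A S) (h : Pr S 𝐉[2, S] D r f z) (ht : t ∈ D) (ht' : t ∉ zpowers r) {ρ : G}
    (ho : Odd (orderOf ρ)) (hi : t * f * ρ * (t * f)⁻¹ = ρ⁻¹) (hf : fg z t ⊓ 𝐜[ρ] = ⊥)
    (hc : ⁅S ⊓ 𝐂[fg z t], zpowers ρ⁆ ≤ fg z t) : False := by
  have d := h.dd.dh
  obtain ⟨w1, -, w2, w3, -⟩ := d.fg ht ht'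
  obtain ⟨Γ, b⟩ := h.dd.fb t ht ht'
  obtain ⟨b1, -, b2, -⟩ := b.cent d ht ht'
  have p := fun a => pr_fg h c.inv (env_inv_J c.inv) (c.oddA.2.2 a) ht ht'
  have tW : t ∈ fg z t := (w3 t).2 (by simp)
  have zW : z ∈ fg z t := (w3 z).2 (by simp)
  have t2 := d.sq t ht ht'
  have uD : t * f ∈ D := mul_mem ht d.basic.1
  set Q : Subgroup G := S ⊓ ⨅ a : A, 𝐂[(fg z t).map (hom G a)]
  have iQ : Inv A Q := fun e x hx => ⟨c.inv e x hx.1, mem_iInf.2 fun a => by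
    rintro _ ⟨w, hw, rfl⟩
    simpa [smul_smul, Solv.Ext.hom_apply] using
      congrArg (e • ·) (mem_iInf.1 hx.2 (e⁻¹ * a) _ ⟨w, hw, rfl⟩)⟩
  have WQ : fg z t ≤ Q := le_inf (w2.trans h.dd.le) (le_iInf fun a => le_centralizer_iff.1 (p a).1)
  have QC : Q ≤ S ⊓ 𝐂[fg z t] := fun x hx => ⟨hx.1, fun w hw => by
    simpa [Solv.Ext.hom_apply] using mem_iInf.1 hx.2 1 _ ⟨w, hw, rfl⟩⟩
  have fQ : f ∈ 𝐍[Q] := mem_normalizer_fintype fun x hx =>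
    ⟨conj_mem_of_mem_normalizer (le_normalizer (h.dd.le d.basic.1)) hx.1, mem_iInf.2 fun a =>
      conj_mem_of_mem_normalizer (normalizer_le_normalizer_centralizer _ (p a).2) (mem_iInf.1 hx.2 a)⟩
  have WV : fg z t ≤ 𝐙[Q] := CP.le_omegaZ w1 WQ (le_centralizer_iff.1 (QC.trans inf_le_right))
  have k := c.toDec.blk c.oddA.1 ((CP.omegaZ_le Q).trans le_normalizer)
    (CP.normalizer_le_normalizer_omegaZ Q) iQ.normalizer (env_inv_Z iQ) c.inv c.syl.pgrp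
    (c.sol_norm.2 Q (fun e => d.z1 (e.le (WQ zW))) inf_le_left iQ) (CP.omegaZ_isEA Q) (h.dd.le uD)
    (mul_mem (le_normalizer (WQ tW)) fQ) (by
      nth_rw 2 [← inv_eq_of_mul_eq_one_right t2]
      rw [← mul_assoc, d.inv ht ht' d.fr, inv_mul_cancel])
    (zpowers_le.1 (le_normalizer_iff_commutator_le_left.2
      ((commutator_mono QC le_rfl).trans (hc.trans WQ)))) ho hi
    fun e => d.z1 (hf.le ⟨zW, mem_centralizer_singleton_iff.2 (e z (WV zW))⟩)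
  have zu : z ∈ 𝐜[t * f] :=
    mem_centralizer_singleton_iff.2 (mem_centralizer_singleton_iff.1 (d.basic.2.2.2.2.2.1 uD)).symm
  refine absurd (k.trans (Nat.le_of_dvd two_pos (index_dvd_two_iff.2 ⟨⟨t, WV tW⟩, fun v => ?_⟩)))
    (by norm_num)
  obtain ⟨w, hw, g, hg, e⟩ := (mem_sup_of_le_normalizer_left
    (b2.trans (centralizer_le_normalizer _))).1 (b1 (QC (CP.omegaZ_le Q v.2)))
  have gt := mem_centralizer_singleton_iff.1 (b.Γt hg)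
  have gu : g ∈ 𝐜[t * f] := mem_centralizer_singleton_iff.2 (by
    rw [← mul_assoc, gt, mul_assoc, mem_centralizer_singleton_iff.1 (b.Γf hg), mul_assoc])
  simp only [mem_subgroupOf, coe_mul, e]
  rcases (w3 w).1 hw with rfl | rfl | rfl | rfl
  · exact .inr (mul_mem (one_mem _) gu)
  · exact .inr (mul_mem zu gu)
  · left
    rwa [mul_assoc, gt, ← mul_assoc, t2, one_mul]
  · left
    rw [mul_assoc, gt, ← mul_assoc, mul_assoc z, t2, mul_one]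
    exact mul_mem zu gu

end Cfsg.Agent.CpN
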