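import Cfsg.Agent.NFS.Api

/-!
# S4319 (captain helper63): definitions and the diagonal lemma

THEOREM.  `A` acts coprimely on `G` and fixed elements of odd order commute with fixed 2-elements
(`Dec A G`; true if `C_G(A)` is nilpotent or has odd order).  Then `G` is solvable.
The proof reruns the NFS engine (helper49); `Cn` replaces `NFS.Ce`, `Mn` replaces `NFS.Md`.
Operator arguments are replaced by the diagonal lemma `diag` / `diag_cj`.
-/

set_option autoImplicit false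
set_option linter.unusedSectionVars false

namespace Cfsg.Agent.CpN

open Cfsg.Agent.PLocal hiding centralizer_anti
open Subgroup Cfsg Cfsg.Agent.PLocal.Amb Cfsg.Agent.PLocal.TV
open Cfsg.Agent.PLocal.SL2Nat Cfsg.Agent.PLocal.Bk
open Cfsg.Agent.PLocal.CP (IsCharP MinOver ncl secCent)
open Cfsg.Agent.Solv.Ext (Inv)
open Cfsg.Agent.NFS
open scoped commutatorElement MatrixGroups Cfsg.Agent.PLocal.CP

variable {G : Type*} [Group G]

/-- coprime action; fixed elements of odd order commute with fixed 2-elements -/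
structure Dec (A G : Type*) [Group A] [Group G] [MulDistribMulAction A G] : Prop where
  cop : (Nat.card A).Coprime (Nat.card G)
  dec : ∀ x y : G, (∀ a : A, a • x = x) → (∀ a : A, a • y = y) → Odd (orderOf x) →
    (∃ k, y ^ 2 ^ k = 1) → x * y = y * x

/-- the minimal counterexample -/
structure Cn (A : Type*) [Group A] [MulDistribMulAction A G] (S : Subgroup G) : Prop
    extends Dec A G where
  simple : IsSimpleGroup G
  nsol : ¬ Group.IsSolvable G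
  syl : IsSyl 2 S ⊤
  inv : Inv A S
  sol : ∀ H : Subgroup G, Inv A H → H ≠ ⊤ → Group.IsSolvable H

/-- faithful module situation: `S D` acts on `V`, operators `F` -/
structure Mn (V S D F : Subgroup G) : Prop where
  ea : IsElementaryAbelian 2 V
  pg : IsPGroup 2 S
  nil : Group.IsNilpotent D
  odd : Odd (Nat.card D)
  SV : S ≤ 𝐍[V]
  DV : D ≤ 𝐍[V]
  FV : F ≤ 𝐍[V]
  SD : S ≤ 𝐍[D]
  FD : F ≤ 𝐍[D]
  FS : F ≤ 𝐍[S]
  fD : D ⊓ 𝐂[V] = ⊥
  fS : S ⊓ 𝐂[V] = ⊥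
  cD : S ⊓ 𝐂[D] = ⊥
  oF : Odd (Nat.card F)
  tF : 3 ∣ Nat.card D → ¬ 3 ∣ Nat.card F
  n1 : ∀ x ∈ D ⊓ 𝐂[F], ∀ v ∈ V ⊓ 𝐂[F], x * v = v * x
  n2 : ∀ x ∈ D ⊓ 𝐂[F], ∀ s ∈ S ⊓ 𝐂[F], x * s = s * x

variable [Finite G]

/-- the product of an invariant set of commuting elements -/
theorem prod_fix' {𝒱 : Set G} (hc : ∀ v ∈ 𝒱, ∀ w ∈ 𝒱, v * w = w * v) {v₀ : G} (h0 : v₀ ∈ 𝒱)
    {K : Subgroup G} (hK' : ∀ v ∈ 𝒱, v ≠ v₀ → v ∈ K) {m : ℕ} (hm : ∀ v ∈ 𝒱, v ^ m = 1) :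
    ∃ π ∈ closure 𝒱, v₀⁻¹ * π ∈ K ∧ π ^ m = 1 ∧
      ∀ φ : G ≃* G, (∀ v ∈ 𝒱, φ v ∈ 𝒱) → φ π = π := by
  classical
  have hA : IsMulCommutative (closure 𝒱) := isMulCommutative_closure hc
  let _ : CommGroup (closure 𝒱) := { (inferInstance : Group (closure 𝒱)) with
    mul_comm := hA.is_comm.comm }
  have := Fintype.ofFinite 𝒱
  let f : 𝒱 → closure 𝒱 := fun v => ⟨v, subset_closure v.2⟩
  refine ⟨(∏ v, f v : closure 𝒱), SetLike.coe_mem _, ?_, ?_, fun φ hφ => ?_⟩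
  · rw [← Finset.mul_prod_erase _ _ (Finset.mem_univ (⟨v₀, h0⟩ : 𝒱)), coe_mul]
    have : ∏ v ∈ Finset.univ.erase (⟨v₀, h0⟩ : 𝒱), f v ∈ K.subgroupOf (closure 𝒱) :=
      Subgroup.prod_mem _ fun v hv => hK' v v.2 fun c => Finset.ne_of_mem_erase hv (Subtype.ext c)
    rw [inv_mul_cancel_left]
    exact this
  · rw [← coe_pow, ← Finset.prod_pow, Finset.prod_eq_one, coe_one]
    exact fun v _ => Subtype.ext (hm v v.2)
  · have hle : closure 𝒱 ≤ (closure 𝒱).comap φ.toMonoidHom :=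
      (closure_le _).2 fun v hv => subset_closure (hφ v hv)
    let ψ : closure 𝒱 →* closure 𝒱 :=
      (φ.toMonoidHom.comp (closure 𝒱).subtype).codRestrict _ fun x => hle x.2
    let σ : 𝒱 → 𝒱 := fun v => ⟨φ v, hφ v v.2⟩
    have hσ : Function.Bijective σ := Finite.injective_iff_bijective.1 fun a b e =>
      Subtype.ext (φ.injective (congrArg Subtype.val e))
    change ((ψ (∏ v, f v) : closure 𝒱) : G) = _
    rw [map_prod]
    exact congrArg _ (hσ.prod_comp f)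

theorem diag1 {A : Type*} [Group A] [MulDistribMulAction A G] {x : G} {K X : Subgroup G}
    (hK : K ≤ 𝐜[x]) (h : ∀ a : A, a • x = x ∨ a • x ∈ K) (hX : Inv A X) (hx : x ∈ X) :
    ∃ ρ ∈ X, x⁻¹ * ρ ∈ K ∧ ρ ^ orderOf x = 1 ∧ ∀ a : A, a • ρ = ρ := by
  have c : ∀ a : A, a • x * x = x * a • x := fun a => by
    rcases h a with e | e
    · rw [e]
    · exact mem_centralizer_singleton_iff.1 (hK e)
  obtain ⟨ρ, h1, h2, h3, h4⟩ := prod_fix' (𝒱 := Set.range fun a : A => a • x) (v₀ := x) (K := K)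
    (m := orderOf x) (by
      rintro _ ⟨a, rfl⟩ _ ⟨b, rfl⟩
      have := congrArg (b • ·) (c (b⁻¹ * a))
      simpa only [smul_mul', smul_smul, mul_inv_cancel_left] using this)
    ⟨1, one_smul _ _⟩ (by rintro _ ⟨a, rfl⟩ ne; exact (h a).resolve_left ne)
    (by rintro _ ⟨a, rfl⟩; rw [← smul_pow', pow_orderOf_eq_one, smul_one])
  refine ⟨ρ, (closure_le _).2 (by rintro _ ⟨a, rfl⟩; exact hX a x hx) h1, h2, h3, fun a =>
    h4 (MulDistribMulAction.toMulAut A G a) ?_⟩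
  rintro _ ⟨b, rfl⟩
  exact ⟨a * b, mul_smul a b x⟩

/-- DIAGONAL LEMMA.  Every operator fixes `x` and `v`, or moves both into `K ≤ C(x) ⊓ C(v)`. -/
theorem diag {A : Type*} [Group A] [MulDistribMulAction A G] {x v : G} {K X Y : Subgroup G}
    (hK : K ≤ 𝐜[x] ⊓ 𝐜[v]) (h : ∀ a : A, (a • x = x ∧ a • v = v) ∨ (a • x ∈ K ∧ a • v ∈ K))
    (hX : Inv A X) (hx : x ∈ X) (hY : Inv A Y) (hv : v ∈ Y)
    (hn : ∀ ρ ∈ X, ∀ π ∈ Y, (∀ a : A, a • ρ = ρ) → (∀ a : A, a • π = π) → ρ ^ orderOf x = 1 →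
      π ^ orderOf v = 1 → ρ * π = π * ρ) : ⁅x, v⁆ ∈ K := by
  obtain ⟨ρ, a1, a2, a3, a4⟩ := diag1 (hK.trans inf_le_left) (fun a => (h a).imp And.left And.left) hX hx
  obtain ⟨π, b1, b2, b3, b4⟩ := diag1 (hK.trans inf_le_right) (fun a => (h a).imp And.right And.right) hY hv
  have e := hn ρ a1 π b1 a4 b4 a3 b3
  obtain ⟨c, rfl⟩ : ∃ c, ρ = x * c := ⟨x⁻¹ * ρ, by group⟩
  obtain ⟨d, rfl⟩ : ∃ d, π = v * d := ⟨v⁻¹ * π, by group⟩
  rw [inv_mul_cancel_left] at a2 b2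
  have c1 := mem_centralizer_singleton_iff.1 (hK a2).2
  have c2 := mem_centralizer_singleton_iff.1 (hK b2).1
  have k := mul_mem (mul_mem b2 a2) (inv_mem (mul_mem a2 b2))
  have k1 := mem_centralizer_singleton_iff.1 (hK k).1
  have k2 := mem_centralizer_singleton_iff.1 (hK k).2
  have e2 : x * v = v * x * (d * c * (c * d)⁻¹) := by
    calc _ = x * (v * c) * d * (c * d)⁻¹ := by group
      _ = x * c * (v * d) * (c * d)⁻¹ := by rw [← c1]; group
      _ = v * (d * x) * c * (c * d)⁻¹ := by rw [e]; group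
      _ = _ := by rw [c2]; group
  generalize d * c * (c * d)⁻¹ = u at k k1 k2 e2
  rw [commutatorElement_def, e2, mul_assoc v, ← k1, ← mul_assoc, ← k2]
  simpa using k

/-- the diagonal lemma for operators inside the ambient group -/
theorem diag_cj {F X Y : Subgroup G} {x v : G} (hX : F ≤ 𝐍[X]) (hx : x ∈ X) (hY : F ≤ 𝐍[Y])
    (hv : v ∈ Y) (hn : ∀ ρ ∈ X ⊓ 𝐂[F], ∀ π ∈ Y ⊓ 𝐂[F], ρ * π = π * ρ)
    (h : ∀ f ∈ F, (f * x * f⁻¹ = x ∧ f * v * f⁻¹ = v) ∨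
      (f * x * f⁻¹ ∈ 𝐜[x] ⊓ 𝐜[v] ∧ f * v * f⁻¹ ∈ 𝐜[x] ⊓ 𝐜[v])) : ⁅x, v⁆ ∈ 𝐜[x] ⊓ 𝐜[v] := by
  let _ : MulDistribMulAction F G := MulDistribMulAction.compHom G (MulAut.conj.comp F.subtype)
  exact diag (A := F) le_rfl (fun f => h f f.2) (fun f y hy => conj_mem_of_mem_normalizer (hX f.2) hy) hx
    (fun f y hy => conj_mem_of_mem_normalizer (hY f.2) hy) hv fun ρ h1 π h2 h3 h4 _ _ =>
      hn ρ ⟨h1, fun f hf => mul_inv_eq_iff_eq_mul.1 (h3 ⟨f, hf⟩)⟩
        π ⟨h2, fun f hf => mul_inv_eq_iff_eq_mul.1 (h4 ⟨f, hf⟩)⟩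

/-- an element of order prime to `|Aut U|` normalising `U` centralises it -/
theorem cen_of_aut {U : Subgroup G} {f : G} (hn : f ∈ 𝐍[U])
    (hc : (orderOf f).Coprime (Nat.card (MulAut U))) : f ∈ 𝐂[U] := by
  have e : U.normalizerMonoidHom ⟨f, hn⟩ = 1 := orderOf_eq_one_iff.1 (Nat.eq_one_of_dvd_coprimes hc
    ((orderOf_map_dvd _ _).trans (by rw [← orderOf_coe])) (orderOf_dvd_natCard _))
  have : (⟨f, hn⟩ : 𝐍[U]) ∈ U.normalizerMonoidHom.ker := e
  rwa [normalizerMonoidHom_ker] at this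

theorem cen_of_le_four {U : Subgroup G} {f : G} (hn : f ∈ 𝐍[U]) (h4 : Nat.card U ≤ 4)
    (h2 : Odd (orderOf f)) (h3 : ¬ 3 ∣ orderOf f) : f ∈ 𝐂[U] := by
  classical
  refine cen_of_aut hn (Nat.Coprime.coprime_dvd_right (m := 24) ?_ ?_)
  · have := Fintype.ofFinite U
    refine (Subgroup.card_dvd_of_injective (MulAut.toPerm U) fun a b e => MulEquiv.toEquiv_injective e).trans ?_
    rw [Nat.card_perm]
    exact Nat.factorial_dvd_factorial h4
  · rw [show 24 = 2 ^ 3 * 3 from rfl]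
    exact (h2.coprime_two_right.pow_right 3).mul_right
      ((Nat.Prime.coprime_iff_not_dvd Nat.prime_three).2 h3).symm

/-- an element of odd order normalising a subgroup of order 3 or 5 centralises it -/
theorem cen_of_35 {z f : G} (hz : orderOf z = 3 ∨ orderOf z = 5) (hn : f * z * f⁻¹ ∈ zpowers z)
    (h2 : Odd (orderOf f)) : f * z * f⁻¹ = z := by
  have hn' : f ∈ 𝐍[zpowers z] := mem_normalizer_of_cj_le (by
    rw [MonoidHom.map_zpowers, zpowers_le]; exact hn)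
  refine mul_inv_eq_iff_eq_mul.2 (cen_of_aut hn' ?_ z (mem_zpowers z)).symm
  rw [IsCyclic.card_mulAut, Nat.card_zpowers]
  rcases hz with e | e <;> rw [e]
  · exact h2.coprime_two_right
  · exact h2.coprime_two_right.pow_right 2

end Cfsg.Agent.CpN
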