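import Cfsg.Agent.CpN.Trans
import Cfsg.Agent.NFS.Env

/-!
# The environment `En S` (port of NFS/Env)
-/

set_option autoImplicit false
set_option linter.unusedSectionVars false

namespace Cfsg.Agent.CpN

open Cfsg.Agent.PLocal hiding centralizer_anti
open Subgroup Cfsg Cfsg.Agent.PLocal.Amb Cfsg.Agent.PLocal.TV
open Cfsg.Agent.PLocal.SL2Nat Cfsg.Agent.PLocal.Bk
open Cfsg.Agent.PLocal.CP (IsCharP MinOver ncl secCent)
open Cfsg.Agent.Solv.Ext (Inv)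
open Cfsg.Agent.QT.Qrc (P2)
open Cfsg.Agent.NFS
open scoped commutatorElement MatrixGroups Cfsg.Agent.PLocal.CP

variable {G : Type*} [Group G] [Finite G] {A : Type*} [Group A] [Finite A] [MulDistribMulAction A G]
  {S : Subgroup G}

theorem Cn.inv_basic (h : Cn A S) : Inv A 𝐙[S] ∧ Inv A 𝐉[2, S] ∧ Inv A 𝐁[2, S] ∧ Inv A (VV S) ∧
    𝐙[S] ≠ ⊥ ∧ 𝐉[2, S] ≠ ⊥ := by
  have hZ := env_inv_Z h.inv
  have hJ := env_inv_J h.inv
  refine ⟨hZ, hJ, Solv.Ext.inv_of_map_eq fun a => ?_, env_inv_ncl hZ hJ.normalizer,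
    omegaOne_ne_bot_of_isPGroup (h.syl.pgrp.to_le inf_le_left)
      (Amb.inf_centralizer_ne_bot h.syl.pgrp h.syl.pgrp le_normalizer h.sol_norm.1),
    thompsonSubgroupOf_ne_bot_of_isPGroup h.syl.pgrp h.sol_norm.1⟩
  rw [BlockTr.map_baumann _ (Solv.Ext.hom_injective a), h.inv.map_eq]

theorem Cn.s1' (h : Cn A S) (C : Subgroup G) (hC : Ch 𝐁[2, S] C) (hc : S ⊓ 𝐂[C] ≤ C) :
    ∀ g ∈ 𝐍[C], Gd S g := by
  intro g hg
  obtain ⟨iZ, -, iB, -, z1, -⟩ := h.inv_basic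
  have hCS : C ≤ S := hC.le.trans (baumann_le S)
  have hZC : 𝐙[S] ≤ C := le_trans (le_inf (CP.omegaZ_le S)
    ((CP.omegaZ_le_centralizer S).trans (Amb.centralizer_anti hCS))) hc
  have iC : Inv A C := by
    have := hC.char
    have k := iB.map_subtype_of_characteristic (C.subgroupOf 𝐁[2, S])
    rwa [map_subgroupOf_eq_of_le hC.le] at k
  have hSH : S ≤ 𝐍[C] :=
    le_normalizer.trans ((normalizer_le_normalizer_baumann S).trans hC.normalizer_le)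
  have hs := h.sol_norm.2 C (fun k => z1 (le_bot_iff.1 (k ▸ hZC))) hCS iC
  have hU : ncl 𝐙[S] 𝐍[C] ≤ 𝐙[C] :=
    CP.ncl_le (CP.omegaZ_le_omegaZ hCS hZC) (CP.normalizer_le_normalizer_omegaZ _)
  have hE := isEA_mono (CP.omegaZ_isEA C) hU
  have hn := CP.le_normalizer_ncl 𝐙[S] 𝐍[C]
  have hJ : 𝐉[2, S] ≤ 𝐂[ncl 𝐙[S] 𝐍[C]] := (h.p24 iC.normalizer hSH hs hE).1.thompson_le hE
    (hU.trans ((CP.omegaZ_le C).trans hCS)) (hSH.trans hn)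
  have hK : 𝐍[C] ≤ 𝐍[𝐍[C] ⊓ 𝐂[ncl 𝐙[S] 𝐍[C]]] :=
    Amb.le_normalizer_inf le_normalizer (Amb.le_normalizer_centralizer hn)
  obtain ⟨x, hx, n, hn', rfl⟩ := ((h.syl.mono hSH le_top).inf_of_le inf_le_left hK).frattini' (hK hg)
  have e : 𝐉[2, S ⊓ (𝐍[C] ⊓ 𝐂[ncl 𝐙[S] 𝐍[C]])] = 𝐉[2, S] := thompsonSubgroupOf_eq_of_le
    (le_inf (thompsonSubgroupOf_le S) (le_inf ((thompsonSubgroupOf_le S).trans hSH) hJ)) inf_le_left
  have hx' := normalizer_le_normalizer_thompsonSubgroupOf (p := 2) _ hx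
  rw [e] at hx'
  rw [Gd, cj_mul, env_cj_cent (Amb.centralizer_anti (CP.le_ncl _ _) (mem_inf.1 hn').2)]
  exact CP.cj_le_ncl _ hx'

theorem Cn.p24' (h : Cn A S) : P2 (VV S) S ∧ P4 (VV S) S ∧ VV S ≤ 𝐉[2, S] ∧
    𝐉[2, S] ≤ 𝐂[VV S] := by
  obtain ⟨-, iJ, -, -, -, j1⟩ := h.inv_basic
  obtain ⟨-, v2, v3, -, v5⟩ := vv_basic S
  obtain ⟨k1, k2⟩ := h.p24 iJ.normalizer v5
    (h.sol_norm.2 _ j1 (thompsonSubgroupOf_le S) iJ) v3
  exact ⟨k1, k2, v2.trans (CP.omegaZ_le _), cent_symm (v2.trans (CP.omegaZ_le_centralizer _))⟩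

/-- (S1)  `H = 𝐂[Z] ≥ S` is solvable (`≤ 𝐍[Z]`).  `P2 V S`, `P4 V S` from `Cn.p24` with `H := 𝐍[J]`.
Let `O = O_{2'}(H)`, `X = ↥H ⧸ O`, `π` the projection; `π` is injective on `S`; `X` is solvable with
`O_{2'}(X) = 1`, so `IsCharP 2 ⊤`.  Apply `s1b` to `T = π S`, `π V`: `𝐉`, `𝐙`, `P2`, `P4` transfer
along the isomorphism `S ≃ π S` (centralisers inside `S` correspond; `V ≤ S`); `N_X(π J) = π N_H(J)`
(Frattini in `J O`); `𝐙[π S] = π Z` is central.  So `H` normalises `V O`, in which `V` is Sylow;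
Frattini gives `c = m o`. -/
theorem Cn.s1 (h : Cn A S) : ∃ O : Subgroup G, Odd (Nat.card O) ∧ O ≤ 𝐂[𝐙[S]] ∧
    𝐂[𝐙[S]] ≤ 𝐍[O] ∧ ∀ c ∈ 𝐂[𝐙[S]], ∃ m ∈ 𝐍[VV S], ∃ o ∈ O, c = m * o := by
  obtain ⟨iZ, -, -, -, z1, -⟩ := h.inv_basic
  obtain ⟨-, -, v3, v4, -⟩ := vv_basic S
  obtain ⟨k1, k2, k3, k4⟩ := h.p24'
  have hSH : S ≤ 𝐂[𝐙[S]] := CP.le_centralizer_omegaZ S
  have hJS := thompsonSubgroupOf_le (p := 2) S
  have hVS := k3.trans hJS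
  have hs : Group.IsSolvable 𝐂[𝐙[S]] := by
    have := h.sol_norm.2 _ z1 (CP.omegaZ_le S) iZ
    exact solvable_of_solvable_injective (inclusion_injective (centralizer_le_normalizer' 𝐙[S]))
  have hk : S.subgroupOf 𝐂[𝐙[S]] ⊓ (𝐂[𝐙[S]]).subtype.ker = ⊥ := by
    rw [ker_subtype, inf_bot_eq]
  have eJ : 𝐉[2, S.subgroupOf 𝐂[𝐙[S]]] = (𝐉[2, S]).subgroupOf 𝐂[𝐙[S]] := by
    rw [← thompsonSubgroupOf_subgroupOf hSH]
    exact (comap_map_eq_self_of_injective (subtype_injective _) _).symm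
  have eS := map_subgroupOf_eq_of_le hSH
  have eV := map_subgroupOf_eq_of_le (hVS.trans hSH)
  have hle : (VV S).subgroupOf 𝐂[𝐙[S]] ≤ S.subgroupOf 𝐂[𝐙[S]] := comap_mono hVS
  have key := env_s1K (T := S.subgroupOf 𝐂[𝐙[S]]) (V := (VV S).subgroupOf 𝐂[𝐙[S]]) hs
    (by obtain ⟨P, hP⟩ := (h.syl.mono hSH le_top).exists_sylow
        exact hP ▸ isSyl_top P)
    (isEA_subgroupOf v3 _) (eJ ▸ comap_mono k3)
    (by rw [eJ, Amb.centralizer_subgroupOf (hVS.trans hSH)]; exact comap_mono k4)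
    (by rw [eJ, normalizer_eq_subgroupOf, normalizer_eq_subgroupOf, eV,
          map_subgroupOf_eq_of_le (hJS.trans hSH)]
        exact comap_mono v4)
    ((env_p2 hk hle).1 (by rwa [eS, eV])) ((env_p4 hk hle).1 (by rwa [eS, eV]))
    (fun z hz => mem_center_iff.2 fun g => Subtype.ext (by
      have := mem_map_of_mem (𝐂[𝐙[S]]).subtype hz
      rw [map_omegaOne_center _ (subtype_injective _), eS] at this
      exact (g.2 _ this).symm))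
  refine ⟨(pPrimeCore 2 𝐂[𝐙[S]]).map (𝐂[𝐙[S]]).subtype, ?_, map_subtype_le _,
    Amb.le_normalizer_map_subtype _, fun c hc => ?_⟩
  · rw [Subgroup.card_map_of_injective (subtype_injective _)]
    exact Nat.coprime_two_right.1 (Grp.pPrimeCore_coprime 2 _)
  · obtain ⟨m, hm, o, ho, e⟩ := key ⟨c, hc⟩
    rw [normalizer_eq_subgroupOf, eV] at hm
    exact ⟨m, hm, o, mem_map_of_mem _ ho, congrArg Subtype.val e⟩

/-- weak closure of `J` -/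
theorem env_wc {x : G} (h : cj(x, 𝐉[2, S]) ≤ S) : x ∈ 𝐍[𝐉[2, S]] := by
  have h1 : 𝐉[2, cj(x, 𝐉[2, S])] ≤ 𝐉[2, S] := J_le_of_mx h (by rw [mx_cj, mx_J])
  rw [thompson_cj, thompsonSubgroupOf_eq_of_le le_rfl (thompsonSubgroupOf_le S)] at h1
  exact cj_eq_iff.1 (eq_of_le_of_card_ge h1 (card_cj _ _).ge)

/-- the last step of `g1` -/
theorem env_odd {X O M : Subgroup G} (hX : IsPGroup 2 X) (hO : Odd (Nat.card O)) (hXO : X ≤ 𝐍[O])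
    (hXM : X ≤ M) {o : G} (ho : o ∈ O) (h : cj(o, X) ≤ M) :
    ∃ b ∈ M, ∀ x ∈ X, o * x * o⁻¹ = b * x * b⁻¹ := by
  have hn : X ≤ 𝐍[O ⊓ M] := Amb.le_normalizer_inf hXO (hXM.trans le_normalizer)
  have h1 : cj(o, X) ≤ X ⊔ (O ⊓ M) := by
    rw [← sup_inf_of_le_normalizer hXM hXO]
    exact le_inf (cj_le_of_mem le_sup_left (mem_sup_right ho)) h
  have h2 : IsSyl 2 X (X ⊔ (O ⊓ M)) := by
    refine isSyl_of_not_dvd_relIndex hX le_sup_left fun k => ?_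
    have d := Grp.card_sup_dvd_of_le_normalizer hn
    rw [← PLocal.card_mul_relIndex_of_le (le_sup_left : X ≤ X ⊔ (O ⊓ M))] at d
    have d2 := (k.trans (Nat.dvd_of_mul_dvd_mul_left Nat.card_pos d)).trans
      (card_dvd_of_le (inf_le_left : O ⊓ M ≤ O))
    exact (Nat.not_even_iff_odd.2 hO) (even_iff_two_dvd.2 d2)
  obtain ⟨y, hy, e⟩ := h2.exists_cj_le (isPGroup_cj o hX) h1
  obtain ⟨a, ha, b, hb, rfl⟩ := (mem_sup_of_le_normalizer_right hn).1 hy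
  rw [cj_mul, cj_le_iff, cj_of_mem (inv_mem ha), ← cj_mul] at e
  have hbo : b * o ∈ O := mul_mem (mem_inf.1 hb).1 ho
  have hd : X ⊓ O = ⊥ := Grp.inf_eq_bot_of_isPGroup_of_coprime hX (Nat.coprime_two_right.2 hO)
  refine ⟨b⁻¹, inv_mem (mem_inf.1 hb).2, fun x hx => ?_⟩
  have k1 : b * o * x * (b * o)⁻¹ * x⁻¹ ∈ X ⊓ O := by
    refine mem_inf.2 ⟨mul_mem (e (conj_mem_cj _ hx)) (inv_mem hx), ?_⟩
    have := mul_mem hbo (Amb.conj_mem_of_mem_normalizer (hXO hx) (inv_mem hbo))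
    convert this using 1
    group
  rw [hd, mem_bot, mul_inv_eq_one] at k1
  calc o * x * o⁻¹ = b⁻¹ * (b * o * x * (b * o)⁻¹) * b := by group
    _ = b⁻¹ * x * b⁻¹⁻¹ := by rw [k1, inv_inv]

/-- (G1)  `Z` and `cj(g, Z) ≤ V` centralise the weakly closed `J`.  Burnside: `J` and `cj(g, J)` lie
in `𝐂[cj(g, Z)]`; they are Thompson subgroups of Sylow 2-subgroups of it (`cj(g, S)` is one; `J` lies
in a conjugate `cj(c g, S)`, same `maxEA` order, so `J = cj(c g, J)`); so `c g = n ∈ 𝐍[J]` with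
`c ∈ 𝐂[cj(g, Z)]`, and `n⁻¹ g ∈ 𝐂[Z]`.  By `s1`, `g = m o`, `m ∈ M`, `o ∈ O`.  `cj(o, X) ≤ cj(m⁻¹, S) ≤ M`,
so `X` and `cj(o, X)` are Sylow in `M ⊓ (X O) = X (O ⊓ M)` (`X ≤ S ≤ 𝐂[Z]` normalises `O`): there is
`o' ∈ O ⊓ M` with `cj(o', X) = cj(o, X)`; `o'⁻¹ o ∈ O ⊓ 𝐍[X]` centralises `X` (`[·,·] ≤ O ⊓ X = ⊥`).
Take `m o'`. -/
theorem Cn.g1 (h : Cn A S) (X : Subgroup G) (g : G) (h1 : 𝐙[S] ≤ X) (h2 : X ≤ S)
    (h3 : cj(g, X) ≤ S) (h4 : Gd S g) : Ag S X g := by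
  obtain ⟨-, -, -, v4, v5⟩ := vv_basic S
  obtain ⟨-, -, -, k4⟩ := h.p24'
  obtain ⟨O, o1, o2, o3, o4⟩ := h.s1
  have hSH : S ≤ 𝐂[𝐙[S]] := CP.le_centralizer_omegaZ S
  have hJ : 𝐉[2, S] ≤ cj(g, 𝐂[𝐙[S]]) := by
    rw [← centralizer_cj]; exact k4.trans (Amb.centralizer_anti h4)
  obtain ⟨c, hc, e⟩ := ((h.syl.mono hSH le_top).cj g).exists_cj_le
    (h.syl.pgrp.to_le (thompsonSubgroupOf_le S)) hJ
  rw [le_cj_iff, ← cj_mul] at e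
  obtain ⟨m, hm, o, ho, e2⟩ := o4 _ (mem_cj.1 hc)
  have hm' : (g⁻¹ * c)⁻¹ * m ∈ 𝐍[VV S] := mul_mem (inv_mem (v4 (env_wc e))) hm
  have e3 : g = (g⁻¹ * c)⁻¹ * m * o := by rw [mul_assoc, ← e2]; group
  generalize (g⁻¹ * c)⁻¹ * m = n at hm' e3
  subst e3
  rw [cj_mul, cj_le_iff] at h3
  obtain ⟨b, hb, k⟩ := env_odd (h.syl.pgrp.to_le h2) o1 (h2.trans (hSH.trans o3))
    (h2.trans (v5.trans v4)) ho (h3.trans (cj_le_of_mem (v5.trans v4) (inv_mem hm')))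
  refine ⟨n * b, mul_mem hm' hb, fun x hx => ?_⟩
  calc n * o * x * (n * o)⁻¹ = n * (o * x * o⁻¹) * n⁻¹ := by group
    _ = n * b * x * (n * b)⁻¹ := by rw [k x hx]; group

theorem Cn.en (h : Cn A S) : En S := ⟨h.syl, h.g1, h.s1'⟩

end Cfsg.Agent.CpN
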