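import Cfsg.Agent.CpN.Defs
import Cfsg.Agent.NFS.DhB

/-!
# Operators fixing the centre of a dihedral link

Read NFS/DhA, DhB.  `Pr S Y (D.map ..) (a • r) (a • f) (a • z)` by `Pr.map` with
`φ = MulDistribMulAction.toMulAut A G a` (see `NFS.Ce.chain_end` in NFS/DhE).
-/

set_option autoImplicit false
set_option linter.unusedSectionVars false

namespace Cfsg.Agent.CpN

open Cfsg.Agent.PLocal hiding centralizer_anti
open Subgroup Cfsg Cfsg.Agent.PLocal.Amb Cfsg.Agent.PLocal.TV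
open Cfsg.Agent.PLocal.SL2Nat Cfsg.Agent.PLocal.Bk
open Cfsg.Agent.PLocal.CP (IsCharP MinOver ncl secCent)
open Cfsg.Agent.Solv.Ext (Inv)
open Cfsg.Agent.QT.Qrc (P2)
open Cfsg.Agent.NFS
open scoped commutatorElement MatrixGroups Cfsg.Agent.PLocal.CP

variable {G : Type*} [Group G] [Finite G] {A : Type*} [Group A] [Finite A] [MulDistribMulAction A G]
  {S J W L Y D D' : Subgroup G} {q : ℕ} {r f z r' f' t t' : G}

/-- `t' ∈ D' ≤ Y ≤ S ⊓ 𝐍[D]` is an involution; `DD.invol`.  If `t' ∈ 𝐂[D]` then `D ≤ S ⊓ 𝐂[fg z t']`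
(`Dh.basic`), so `z = ⁅f, t⁆ ∈ Γ'` (`Dh.fg`, `Fb.cent` for `D'`, `t'`), against `zΓ`. -/
theorem pr_inv (h : Pr S Y D r f z) (h' : Pr S Y D' r' f' z) (ht : t' ∈ D') (ht' : t' ∉ zpowers r') :
    t' * r * t'⁻¹ = r⁻¹ := by
  have d := h.dd.dh
  have d' := h'.dd.dh
  refine ((h.dd.invol ⟨h'.dd.le ht, h.nD (h'.DY ht)⟩ (d'.sq _ ht ht')).1.resolve_left fun c => ?_)
  obtain ⟨s, hs, hs'⟩ := d.ex
  obtain ⟨Γ, b⟩ := h'.dd.fb t' ht ht'
  have le : D ≤ S ⊓ 𝐂[fg z t'] := le_inf h.dd.le (by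
    rw [fg, Amb.centralizer_sup, Amb.centralizer_zpowers, Amb.centralizer_zpowers]
    exact le_inf d.basic.2.2.2.2.2.1 fun x hx => mem_centralizer_singleton_iff.2 (c x hx))
  refine b.zΓ ?_
  rw [← (d.fg hs hs').2.2.2.2.2.2.2]
  exact (b.cent d' ht ht').2.1 (commutator_mem_commutator (le d.basic.1) (le hs))

/-- an operator of odd order normalising a cyclic 2-group centralises it: `a • c = c ^ m`, `m` odd,
`a ^ 2 ^ k • c = c ^ m ^ 2 ^ k = c` (Euler), and `a ∈ ⟨a ^ 2 ^ k⟩`. -/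
theorem fix_of_cyc {a : A} (ho : Odd (orderOf a)) {c : G} (h2 : ∃ k, c ^ 2 ^ k = 1)
    (h : a • c ∈ zpowers c) : a • c = c := by
  obtain ⟨m, hm⟩ := (mem_powers_iff_mem_zpowers.2 h : a • c ∈ Submonoid.powers c)
  replace hm : c ^ m = a • c := hm
  have pw : ∀ n : ℕ, a ^ n • c = c ^ m ^ n := fun n => by
    induction n with
    | zero => simp
    | succ n ih => rw [pow_succ', mul_smul, ih, smul_pow', ← hm, ← pow_mul, pow_succ']
  obtain ⟨k, hk⟩ := h2
  obtain ⟨j, -, hj⟩ := (Nat.dvd_prime_pow Nat.prime_two).1 (orderOf_dvd_of_pow_eq_one hk)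
  have h1 : m ^ orderOf a ≡ 1 [MOD orderOf c] := by
    rw [← pow_eq_pow_iff_modEq, ← pw, pow_orderOf_eq_one, one_smul, pow_one]
  have cop : m.Coprime (orderOf c) := Nat.coprime_of_mul_modEq_one (m ^ (orderOf a - 1)) (by
    rwa [← pow_succ', Nat.sub_add_cancel (orderOf_pos a)])
  have st : a ^ (orderOf c).totient ∈ MulAction.stabilizer A c := by
    rw [MulAction.mem_stabilizer_iff, pw]
    exact (pow_eq_pow_iff_modEq.2 (Nat.ModEq.pow_totient cop)).trans (pow_one c)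
  refine zpowers_le.2 st (mem_zpowers_pow_iff.2 ?_)
  rw [hj]
  rcases j with _ | j
  · simp
  · rw [Nat.totient_prime_pow_succ Nat.prime_two]
    simpa using Nat.Coprime.pow_left j (Nat.coprime_two_left.2 ho)

theorem k2a_link (h : Pr S Y D r f z) (iS : Inv A S) (iY : Inv A Y) {b : A} (hb : b • z = z)
    (ht : t ∈ D) (ht' : t ∉ zpowers r) :
    ∃ D', Pr S Y D' (b • r) (b • f) z ∧ b • t ∈ D' ∧ b • t ∉ zpowers (b • r) :=
  ⟨D.map (Solv.Ext.hom G b), by
    have := h.map (MulDistribMulAction.toMulAut A G b) (iS.map_eq b) (iY.map_eq b)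
    rwa [show MulDistribMulAction.toMulAut A G b z = z from hb] at this,
    mem_map_of_mem _ ht, fun ⟨i, e⟩ => ht' ⟨i, MulAction.injective b
      ((map_zpow (Solv.Ext.hom G b) r i).trans e)⟩⟩

theorem k2a_pow {X X' c : G} (h1 : X ∈ zpowers r) (h2 : X' ∈ zpowers r) (h3 : c ∈ zpowers r)
    (e : X * X'⁻¹ * (X * X'⁻¹) * c = c⁻¹) : X' * X' = X * X * (c * c) := by
  calc X' * X' = X' * X' * (X * X'⁻¹ * (X * X'⁻¹) * c * c) := by rw [e]; group
    _ = _ := by
      obtain ⟨i, rfl⟩ := h1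
      obtain ⟨j, rfl⟩ := h2
      obtain ⟨k, rfl⟩ := h3
      group

/-- `t_j = a ^ j • t` is a reflection of the link `D_j` (same `z`), an involution, and inverts `⟨r⟩`
(`pr_inv`, `mb_inv`).  `x_j = t t_j t t_j ∈ ⟨r⟩` (`t_j t t_j⁻¹` is a reflection of `D` by `Dh.norm`; `idx`).
`c = x_1`; also `c ∈ ⟨a • r⟩` (`t t_1 t⁻¹` is a reflection of `D_1`), and `a • c ∈ ⟨a • r⟩` has the same
order, so `a • c ∈ ⟨c⟩` and `a • c = c` (`fix_of_cyc`).  `y_j = t_j t_{j+1} = a ^ j • y_0` centralises `⟨r⟩`,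
`y_j² = c`.  `t y_j t⁻¹ = (x_j t_j)(x_{j+1} t_{j+1}) = x_j x_{j+1}⁻¹ y_j`; squaring, `c⁻¹ = x_j² x_{j+1}⁻² c`.
So `x_j² = c^{2j}` by induction; `x_n = 1` for `n = orderOf a`; `c^{2n} = 1`, `c` is a 2-element, so
`c² = 1` and `Dh.cyc`. -/
theorem pr_comm_z (h : Pr S Y D r f z) (iS : Inv A S) (iY : Inv A Y) {a : A} (ho : Odd (orderOf a))
    (hz : a • z = z) (ht : t ∈ D) (ht' : t ∉ zpowers r) :
    t * (a • t) * (t * (a • t)) = 1 ∨ t * (a • t) * (t * (a • t)) = z := by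
  have d := h.dd.dh
  have tt := d.sq t ht ht'
  have ti : t⁻¹ = t := inv_eq_of_mul_eq_one_right tt
  have az : ∀ j : ℕ, a ^ j • z = z := fun j => pow_mem (S := MulAction.stabilizer A z) hz j
  have sq : ∀ b : A, b • t * b • t = 1 := fun b => by rw [← smul_mul', tt, smul_one]
  have iv : ∀ b : A, (b • t)⁻¹ = b • t := fun b => inv_eq_of_mul_eq_one_right (sq b)
  have inv : ∀ b : A, b • z = z → ∀ x ∈ zpowers r, b • t * x * (b • t)⁻¹ = x⁻¹ := fun b hb => by
    obtain ⟨D', p, m, m'⟩ := k2a_link h iS iY hb ht ht'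
    rintro _ ⟨i, rfl⟩
    show b • t * r ^ i * (b • t)⁻¹ = (r ^ i)⁻¹
    rw [← conj_zpow, pr_inv h p m m', inv_zpow]
  have xr : ∀ b : A, b • z = z → t * b • t * (t * b • t) ∈ zpowers r := fun b hb => by
    obtain ⟨D', p, m, -⟩ := k2a_link h iS iY hb ht ht'
    obtain ⟨k1, k2⟩ := (d.norm (h.nD (p.DY m))).2.2.2 t ht ht'
    simpa [iv, mul_assoc] using d.idx t ht ht' _ k1 k2
  set c := t * a • t * (t * a • t) with hc
  have cr : c ∈ zpowers r := xr a hz
  obtain ⟨k, hk⟩ := isPGroup_iff.1 d.pg c (d.rot_mem cr)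
  have ac : a • c = c := by
    obtain ⟨D', p, m, m'⟩ := k2a_link h iS iY hz ht ht'
    obtain ⟨k1, k2⟩ := (p.dd.dh.norm (p.nD (h.DY ht))).2.2.2 _ m m'
    have c1 : c ∈ zpowers (a • r) := by simpa [hc, ti, mul_assoc] using p.dd.dh.idx _ k1 k2 _ m m'
    have c2 : a • c ∈ zpowers (a • r) := by
      obtain ⟨i, hi⟩ := cr
      exact ⟨i, by rw [← hi]; exact (map_zpow (Solv.Ext.hom G a) r i).symm⟩
    refine fix_of_cyc ho ⟨k, hk⟩ ?_
    obtain ⟨n, hn⟩ := Transfer.mem_zpowers_of_isCyclic (G := zpowers (a • r)) (x := ⟨_, c2⟩)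
      (y := ⟨_, c1⟩) (by
        rw [← Subgroup.orderOf_coe, ← Subgroup.orderOf_coe]
        exact orderOf_map_dvd (Solv.Ext.hom G a) c)
    exact ⟨n, congrArg Subtype.val hn⟩
  have ind : ∀ j : ℕ, t * a ^ j • t * (t * a ^ j • t) * (t * a ^ j • t * (t * a ^ j • t)) =
      (c * c) ^ j := fun j => by
    induction j with
    | zero => simp [tt]
    | succ j ih =>
      rw [pow_succ (c * c), ← ih]
      have h1 := xr _ (az j)
      have h2 := xr _ (az (j + 1))
      refine k2a_pow h1 h2 cr ?_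
      have y2 : a ^ j • t * a ^ (j + 1) • t * (a ^ j • t * a ^ (j + 1) • t) = c := by
        rw [← pow_mem (S := MulAction.stabilizer A c) ac j, hc]
        simp only [smul_mul', pow_succ, mul_smul]
      have i1 := inv _ (az j)
      have i2 := inv _ (az (j + 1))
      have s1 := sq (a ^ j)
      have s2 := sq (a ^ (j + 1))
      generalize a ^ j • t = u at *
      generalize a ^ (j + 1) • t = v at *
      set X := t * u * (t * u) with hX
      set X' := t * v * (t * v) with hX'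
      have a1 : X * u = t * u * t := by rw [hX, mul_assoc, mul_assoc t u u, s1, mul_one]
      have a2 : X' * v = t * v * t := by rw [hX', mul_assoc, mul_assoc t v v, s2, mul_one]
      have e1 : t * (u * v) * t⁻¹ = X * X'⁻¹ * (u * v) := by
        calc _ = t * u * (t * t) * v * t := by rw [tt, ti]; simp [mul_assoc]
          _ = X * u * (X' * v) := by rw [a1, a2]; group
          _ = X * (u * X' * u⁻¹) * (u * v) := by group
          _ = _ := by rw [i1 _ h2]
      have w := mul_mem h1 (inv_mem h2)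
      have e2 : u * v * (X * X'⁻¹) = X * X'⁻¹ * (u * v) := by
        calc _ = u * (v * (X * X'⁻¹) * v⁻¹) * u⁻¹ * (u * v) := by group
          _ = _ := by rw [i2 _ w, i1 _ (inv_mem w), inv_inv]
      rw [← d.inv ht ht' cr, ← y2, ← conj_mul, e1]
      calc _ = X * X'⁻¹ * (X * X'⁻¹ * (u * v)) * (u * v) := by group
        _ = X * X'⁻¹ * (u * v * (X * X'⁻¹)) * (u * v) := by rw [e2]
        _ = _ := by group
  have e := ind (orderOf a)
  rw [pow_orderOf_eq_one, one_smul, tt] at e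
  refine (d.cyc cr).1 (orderOf_eq_one_iff.1 (Nat.eq_one_of_dvd_coprimes
    (Nat.Coprime.pow_left k (Nat.coprime_two_left.2 ho)) (orderOf_dvd_of_pow_eq_one ?_)
    (orderOf_dvd_of_pow_eq_one (by simpa using e.symm))))
  rw [(Commute.refl c).mul_pow, hk, one_mul]

/-- For `b ∈ ⟨a⟩` let `R b` say that `t` and `b • t` commute; if not, `(b • t) t (b • t)⁻¹ = z t`
(`pr_comm_z`).  `W = fg z t`, `Γ` from `fb`; `b • t ∈ S ⊓ 𝐜[z]`.  If `R b`, `R b'` then `b • t, b' • t ∈ S ⊓ 𝐂[W]`,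
their commutator `b • ⁅t, b⁻¹ b' • t⁆ ∈ {1, z}` lies in `Γ ∌ z` (`Fb.cent`), so `R (b⁻¹ b')`.  If neither holds,
`u = (b • t)(b' • t) ∈ S ⊓ 𝐂[W] ≤ W ⊔ Γ`, `u = w γ`, `u² = γ² ∈ Γ`, and again `R (b⁻¹ b')`.  So
`{b ∈ ⟨a⟩ | R b}` is a subgroup; if `¬ R a` then `¬ R a⁻¹`, so `R (a²)`, so `R a` (odd order). -/
theorem pr_comm (h : Pr S Y D r f z) (iS : Inv A S) (iY : Inv A Y) {a : A} (ho : Odd (orderOf a))
    (hz : a • z = z) (ht : t ∈ D) (ht' : t ∉ zpowers r) : t * (a • t) = (a • t) * t := by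
  have d := h.dd.dh
  have tt := d.sq t ht ht'
  have sq : ∀ b : A, b • t * b • t = 1 := fun b => by rw [← smul_mul', tt, smul_one]
  have iv : ∀ b : A, (b • t)⁻¹ = b • t := fun b => inv_eq_of_mul_eq_one_right (sq b)
  have bz : ∀ b ∈ zpowers a, b • z = z := fun b hb =>
    (zpowers_le.2 hz : zpowers a ≤ MulAction.stabilizer A z) hb
  have cz : ∀ b ∈ zpowers a, t * b • t * (t * b • t) = 1 ∨ t * b • t * (t * b • t) = z := fun b hb =>
    pr_comm_z h iS iY (ho.of_dvd_nat (orderOf_dvd_of_mem_zpowers hb)) (bz b hb) ht ht'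
  have one : ∀ b : A, t * b • t * (t * b • t) = 1 → t * b • t = b • t * t := fun b e => by
    rw [← inv_eq_of_mul_eq_one_right e, mul_inv_rev, iv, inv_eq_of_mul_eq_one_right tt]
  have tz : t * z = z * t := mem_centralizer_singleton_iff.1 (d.basic.2.2.2.2.2.1 ht)
  have uz : ∀ b ∈ zpowers a, b • t * z = z * b • t := fun b hb => by
    simpa only [smul_mul', bz b hb] using congrArg (b • ·) tz
  obtain ⟨Γ, fb⟩ := h.dd.fb t ht ht'
  obtain ⟨c1, c2, c3, -⟩ := fb.cent d ht ht'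
  have mem : ∀ x ∈ S, x * z = z * x → x * t = t * x → x ∈ S ⊓ 𝐂[fg z t] := fun x hx h1 h2 => ⟨hx, by
    rw [fg, Amb.centralizer_sup, Amb.centralizer_zpowers, Amb.centralizer_zpowers]
    exact ⟨mem_centralizer_singleton_iff.2 h1, mem_centralizer_singleton_iff.2 h2⟩⟩
  have tS : ∀ b : A, b • t ∈ S := fun b => iS b t (h.dd.le ht)
  have key : ∀ b ∈ zpowers a, ∀ b' ∈ zpowers a, (t * b • t = b • t * t ↔ t * b' • t = b' • t * t) →
      t * (b⁻¹ * b') • t = (b⁻¹ * b') • t * t := fun b hb b' hb' e => by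
    have g : b • t * b' • t * (b • t * b' • t) ∈ Γ := by
      by_cases R : t * b • t = b • t * t
      · simpa [commutatorElement_def, iv, mul_assoc] using c2 (commutator_mem_commutator
          (mem _ (tS b) (uz b hb) R.symm) (mem _ (tS b') (uz b' hb') (e.1 R).symm))
      have n : ∀ b ∈ zpowers a, t * b • t ≠ b • t * t → b • t * t = z * t * b • t := fun b hb R => by
        rw [← tz, ← (cz b hb).resolve_left fun k => R (one b k)]
        calc _ = t * t * b • t * t * (b • t * b • t) := by rw [tt, sq]; simp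
          _ = _ := by group
      have u := mem _ (mul_mem (tS b) (tS b'))
        (Commute.mul_left (uz b hb) (uz b' hb')) (by
          rw [mul_assoc, n b' hb' (mt e.2 R), ← mul_assoc, ← mul_assoc, uz b hb, mul_assoc z,
            n b hb R, ← mul_assoc, ← mul_assoc, d.zz, one_mul, mul_assoc])
      obtain ⟨w, hw, γ, hγ, e'⟩ := (mem_sup_of_le_normalizer_left
        (c3.trans (centralizer_le_normalizer' _))).1 (c1 u)
      have w2 : w * w = 1 := by rw [← pow_two]; exact (d.fg ht ht').1.2 w hw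
      rw [e', mul_assoc, ← mul_assoc γ, ← c3 hγ w hw, ← mul_assoc, ← mul_assoc, w2, one_mul]
      exact mul_mem hγ hγ
    have hm := mul_mem (inv_mem hb) hb'
    refine one _ ((cz _ hm).resolve_right fun k => fb.zΓ ?_)
    rw [← bz b hb, ← k]
    simpa [smul_mul', smul_smul] using g
  have ha := mem_zpowers a
  have inv : ∀ b ∈ zpowers a, t * b • t = b • t * t → t * b⁻¹ • t = b⁻¹ • t * t := fun b hb R => by
    simpa using key b hb 1 (one_mem _) (by simp [R])
  by_contra R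
  have R2 := key _ (inv_mem ha) _ ha (iff_of_false (fun k => R (by simpa using inv _ (inv_mem ha) k)) R)
  rw [inv_inv] at R2
  have ind : ∀ k : ℕ, t * (a * a) ^ k • t = (a * a) ^ k • t * t := fun k => by
    induction k with
    | zero => simp
    | succ k ih =>
      simpa [pow_succ'] using key _ (inv_mem (mul_mem ha ha)) _ (pow_mem (mul_mem ha ha) k)
        (iff_of_true (inv _ (mul_mem ha ha) R2) ih)
  obtain ⟨k, hk⟩ := ho
  have := ind (k + 1)
  rw [← pow_two, ← pow_mul, show 2 * (k + 1) = orderOf a + 1 by omega, pow_succ, pow_orderOf_eq_one,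
    one_mul] at this
  exact R this

end Cfsg.Agent.CpN
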