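import Cfsg.Agent.CpN.MnA

/-!
# `Mn`: small involutions inverting a central element of order 5

`U_x = ⁅V, zpowers x⁆`, `I_b = ⁅V, zpowers b⁆`.
-/

set_option autoImplicit false
set_option linter.unusedSectionVars false

namespace Cfsg.Agent.CpN

open Cfsg.Agent.PLocal hiding centralizer_anti
open Subgroup Cfsg Cfsg.Agent.PLocal.Amb Cfsg.Agent.PLocal.TV
open Cfsg.Agent.PLocal.SL2Nat Cfsg.Agent.PLocal.Bk
open Cfsg.Agent.PLocal.CP (IsCharP MinOver ncl secCent)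
open Cfsg.Agent.Solv.Ext (Inv)
open Cfsg.Agent.QT.Qrc (P2)
open Cfsg.Agent.NFS
open scoped commutatorElement MatrixGroups Cfsg.Agent.PLocal.CP

variable {G : Type*} [Group G] [Finite G] {V S D F : Subgroup G} {b b' : G}

/-- Copy the last part of the proof of `NFS.Md.five` (from `have c1'`; `a4` says `b' z b'⁻¹ = z`). -/
theorem Mn.dis5 (h : Mn V S D F) (hb : Sm V S b) (hb' : Sm V S b') {z z' : G} (hz : z ∈ D ⊓ 𝐂[D])
    (h5 : orderOf z = 5) (hi : b * z * b⁻¹ = z⁻¹) (hz' : z' ∈ D ⊓ 𝐂[D]) (h5' : orderOf z' = 5)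
    (hi' : b' * z' * b'⁻¹ = z'⁻¹) (hne : b' ≠ b) : b' ∈ 𝐜[z] ∧ ⁅V, zpowers z⁆ ≤ 𝐜[b'] := by
  have z1 : z ≠ 1 := fun e => by simp [e] at h5
  have c1 := (h.mb_six hb hz.1 z1 hi).1
  have z1' : z' ≠ 1 := fun e => by simp [e] at h5'
  have c1' := (h.mb_six hb' hz'.1 z1' hi').1
  have a1 := (h.mb_gen hz h5 c1 hz'.1).resolve_left fun h1 =>
    hne (h.mb_eq hb hb' hz h5 hi hz' h5' hi' (eq_of_le_of_card_ge h1 (by omega)))
  have a2 := (h.mb_gen hz' h5' c1' hz.1).resolve_left fun h1 =>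
    hne (h.mb_eq hb hb' hz h5 hi hz' h5' hi' (eq_of_le_of_card_ge h1 (by omega)).symm)
  have tD := conj_mem_of_mem_normalizer (h.SD hb'.mem) hz.1
  have c4 : Nat.card ↥⁅V, zpowers (b' * z * b'⁻¹)⁆ = 16 := by
    rw [← mb_cj (h.SV hb'.mem), card_cj, c1]
  have a3 : z⁻¹ * (b' * z * b'⁻¹) ∈ zpowers z' := by
    refine (h.invz hb' hz' (h5' ▸ Nat.prime_five) hi').2 _ (mul_mem (inv_mem hz.1) tD) ?_ ?_
    · have : (z⁻¹ * (b' * z * b'⁻¹)) ^ 5 ^ 1 = 1 := by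
        rw [pow_one, (Commute.inv_left (hz.2 _ tD).symm).mul_pow, conj_pow, inv_pow, ← h5,
          pow_orderOf_eq_one]
        simp
      obtain ⟨j, -, hj⟩ := (Nat.dvd_prime_pow Nat.prime_five).1 (orderOf_dvd_of_pow_eq_one this)
      exact ⟨j, h5' ▸ hj⟩
    · calc _ = b' * z⁻¹ * b'⁻¹ * ((b' * b') * z * (b' * b')⁻¹) := by group
        _ = _ := by rw [hb'.sq]; group
  have a4 : z⁻¹ * (b' * z * b'⁻¹) = 1 := by
    by_contra w1
    have e1 := (h.mb_gen hz h5 c1 tD).resolve_right fun h1 => h.mb_not hz.1 c1 fun u hu => by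
      have f1 : Commute u (b' * z * b'⁻¹) := mem_centralizer_singleton_iff.1 (h1 hu)
      have f2 : Commute u (z⁻¹ * (b' * z * b'⁻¹)) :=
        ((Amb.centralizer_zpowers z').ge (a1 hu) _ a3).symm
      exact mem_centralizer_singleton_iff.2 (by
        simpa only [mul_inv_rev (z⁻¹), inv_inv, mul_inv_cancel_left] using
          (f1.mul_right f2.inv_right).eq)
    have e2 := (h.mb_gen hz' h5' c1' tD).resolve_right fun h1 => h.mb_not hz'.1 c1' fun u hu => by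
      have f1 : Commute u (b' * z * b'⁻¹) := mem_centralizer_singleton_iff.1 (h1 hu)
      have f2 : Commute u z := mem_centralizer_singleton_iff.1 (a2 hu)
      rw [← Amb.centralizer_zpowers, ← mb_zp (h5' ▸ Nat.prime_five) a3 w1, Amb.centralizer_zpowers]
      exact mem_centralizer_singleton_iff.2 (f2.inv_right.mul_right f1).eq
    exact h.mb_not hz'.1 c1' ((e2.trans (eq_of_le_of_card_ge e1 (by omega)).ge).trans a1)
  exact ⟨mem_centralizer_singleton_iff.2 (mul_inv_eq_iff_eq_mul.1 (inv_mul_eq_one.1 a4).symm), mb_cen (mb_nc (h.SV hb'.mem) (mul_inv_eq_iff_eq_mul.1 (inv_mul_eq_one.1 a4).symm))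
    ((commutator_mono (h.mb_le hz.1) le_rfl).trans (h.mb_I hb' hz'.1 z1' hi'))
    (eq_bot_iff.2 ((le_inf inf_le_right (inf_le_left.trans a1)).trans (h.mb_split hz'.1).2.le))⟩

/-- `diag_cj` with `X = D ∋ z`, `Y = S ∋ b`, `hn = n2`.  Let `f ∈ F`, `z' = f z f⁻¹`, `b' = f b f⁻¹` (`Sm`,
copy from `NFS.Md.five`).  If `b' = b` then `z' ∈ ⟨z⟩` (`invz`) and `cen_of_35`.  Otherwise `dis5` both
ways: `b' ∈ 𝐜[z]`, `b ∈ 𝐜[z']`, `I_b ≤ U_z ≤ 𝐜[b']` (`mb_I`), `I_{b'} ≤ 𝐜[b]`, so `⁅b', b⁆ ∈ S ⊓ 𝐂[V] = ⊥`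
(`comm_mem_cent`); `z' ∈ 𝐜[z]` as `z ∈ Z(D)`.  So `⁅z, b⁆ = z² ∈ 𝐜[b]`, `z⁴ = 1`, absurd. -/
theorem Mn.five (h : Mn V S D F) (hb : Sm V S b) {z : G} (hz : z ∈ D ⊓ 𝐂[D])
    (h5 : orderOf z = 5) (hi : b * z * b⁻¹ = z⁻¹) : False := by
  have z1 : z ≠ 1 := fun e => by simp [e] at h5
  have k := diag_cj h.FD hz.1 h.FS hb.mem h.n2 fun f hf => by
    have hb' : Sm V S (f * b * f⁻¹) := by
      refine ⟨conj_mem_of_mem_normalizer (h.FS hf) hb.mem, by rw [conj_mul, hb.sq]; simp,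
        fun e => hb.ne (by simpa [mul_inv_eq_one] using e), ?_⟩
      rw [centralizer_singleton_conj, ← cj_of_mem_normalizer (h.FV hf),
        relIndex_map_map_of_injective _ _ (MulAut.conj f).injective]
      exact hb.le
    have hz' := conj_mem_of_mem_normalizer (mb_inf (h.FD hf)
      (normalizer_le_normalizer_centralizer _ (h.FD hf))) hz
    have h5' : orderOf (f * z * f⁻¹) = 5 := h5 ▸ (MulAut.conj f).orderOf_eq z
    have hi' : f * b * f⁻¹ * (f * z * f⁻¹) * (f * b * f⁻¹)⁻¹ = (f * z * f⁻¹)⁻¹ := by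
      rw [conj_inv (a := z), ← hi]; group
    by_cases e : f * b * f⁻¹ = b
    · exact .inl ⟨cen_of_35 (.inr h5) ((h.invz hb hz (h5 ▸ Nat.prime_five) hi).2 _ hz'.1
        ⟨1, by rw [h5, h5', pow_one]⟩ (e ▸ hi')) (h.f_odd hf), e⟩
    have a := h.dis5 hb hb' hz h5 hi hz' h5' hi' e
    have a' := h.dis5 hb' hb hz' h5' hi' hz h5 hi (Ne.symm e)
    refine .inr ⟨⟨mem_centralizer_singleton_iff.2 (hz.2 _ hz'.1),
      mem_centralizer_singleton_iff.2 (mem_centralizer_singleton_iff.1 a'.1).symm⟩, a.1,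
      mem_centralizer_singleton_iff.2 (commutatorElement_eq_one_iff_mul_comm.1 (mem_bot.1 (h.fS.le ⟨?_,
        comm_mem_cent h.ea (h.SV hb'.mem) (h.SV hb.mem)
          ((h.mb_I hb' hz'.1 (fun e => by simp [e] at h5') hi').trans a'.2) ((h.mb_I hb hz.1 z1 hi).trans a.2)⟩)))⟩
    exact S.mul_mem (S.mul_mem (S.mul_mem hb'.mem hb.mem) (S.inv_mem hb'.mem)) (S.inv_mem hb.mem)
  have e : ⁅z, b⁆ = z ^ 2 := by
    rw [commutatorElement_def, mul_assoc, mul_assoc, ← mul_assoc b, ← conj_inv, hi, inv_inv, sq]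
  have k2 := mul_inv_eq_iff_eq_mul.2 (mem_centralizer_singleton_iff.1 (e ▸ k.2)).symm
  rw [← conj_pow, hi, inv_pow, inv_eq_iff_mul_eq_one, ← pow_add, ← orderOf_dvd_iff_pow_eq_one, h5] at k2
  omega

end Cfsg.Agent.CpN
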