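import Cfsg.Agent.CpN.Defs
import Cfsg.Agent.NFS.MdD

/-!
# Module lemma for `Mn`: port of the operator-free parts of NFS/MdI, MdB; no type 2 elements
-/

set_option autoImplicit false
set_option linter.unusedSectionVars false

namespace Cfsg.Agent.CpN

open Cfsg.Agent.PLocal hiding centralizer_anti
open Subgroup Cfsg Cfsg.Agent.PLocal.Amb Cfsg.Agent.PLocal.TV
open Cfsg.Agent.PLocal.SL2Nat Cfsg.Agent.PLocal.Bk
open Cfsg.Agent.PLocal.CP (IsCharP MinOver ncl secCent)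
open Cfsg.Agent.Solv.Ext (Inv)
open Cfsg.Agent.QT.Qrc (P2)
open Cfsg.Agent.NFS
open scoped commutatorElement MatrixGroups Cfsg.Agent.PLocal.CP

variable {G : Type*} [Group G] [Finite G] {V S D F : Subgroup G} {b b' : G}

section

variable (h : Mn V S D F) {x y : G}

include h

theorem Mn.i_odd {P : Subgroup G} (hP : P ≤ D) : Odd (Nat.card P) := h.odd.of_dvd_nat (card_dvd_of_le hP)

theorem Mn.i_ord (hx : x ∈ D) : Odd (orderOf x) := Nat.card_zpowers x ▸ h.i_odd (zpowers_le.2 hx)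

theorem Mn.i_le (hx : x ∈ D) : ⁅V, zpowers x⁆ ≤ V :=
  Solv.commutator_le_of_le_normalizer (zpowers_le.2 (h.DV hx))

theorem Mn.i_ea {U : Subgroup G} (hU : U ≤ V) : IsElementaryAbelian 2 U :=
  Misc.IsElementaryAbelian.mono' h.ea hU

theorem Mn.i_bot (hx : x ∈ D) : ⁅V, zpowers x⁆ ⊓ 𝐜[x] = ⊥ := by
  rw [← Amb.centralizer_zpowers]
  exact (odd_split h.ea (h.i_odd (zpowers_le.2 hx)) (zpowers_le.2 (h.DV hx))).2.1

theorem Mn.i_nx (hx : x ∈ D) : x ∈ 𝐍[⁅V, zpowers x⁆] := mdi_norm (h.i_le hx) le_rfl (mem_zpowers x)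

theorem Mn.i_three {P U : Subgroup G} (hP : P ≤ D) (hU : U ≤ V) (h4 : Nat.card U = 4) (hc : ⁅V, P⁆ ≤ U) :
    Nat.card P ∣ 3 := by
  have := card_dvd_of_fpf (mdi_norm hU hc) fun g hg g1 =>
    (mdi_dich (h.i_ea hU) h4 (mdi_norm hU hc hg) (h.i_ord (hP hg))).resolve_left fun k => g1 (by
      have h1 := h.i_bot (hP hg)
      rw [inf_eq_left.2 (((commutator_mono le_rfl (zpowers_le.2 hg)).trans hc).trans k),
        commutator_comm, commutator_eq_bot_iff_le_centralizer] at h1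
      exact mem_bot.1 (h.fD.le ⟨hP hg, h1 (mem_zpowers g)⟩))
  rwa [h4] at this

theorem Mn.i_card (hx : x ∈ D) (h4 : Nat.card ↥⁅V, zpowers x⁆ = 4) : Nat.card (zpowers x) = 3 :=
  ((Nat.dvd_prime Nat.prime_three).1 (h.i_three (zpowers_le.2 hx) (h.i_le hx) h4 le_rfl)).resolve_left
    fun e => by rw [card_eq_one.1 e, commutator_bot_right, card_bot] at h4; omega

theorem Mn.i_same (hx : x ∈ D) (hy : y ∈ D) (h4 : Nat.card ↥⁅V, zpowers x⁆ = 4)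
    (e : ⁅V, zpowers y⁆ = ⁅V, zpowers x⁆) : zpowers y = zpowers x := by
  have h1 := Nat.le_of_dvd (by norm_num) (h.i_three (sup_le (zpowers_le.2 hx) (zpowers_le.2 hy))
    (h.i_le hx) h4 (mdi_sup (h.i_le hx) le_rfl e.le))
  exact (eq_of_le_of_card_ge le_sup_right (by rwa [h.i_card hy (e ▸ h4)])).trans
    (eq_of_le_of_card_ge le_sup_left (by rwa [h.i_card hx h4])).symm

theorem Mn.i_cen (hx : x ∈ D) (hy : y ∈ D) (h4 : Nat.card ↥⁅V, zpowers x⁆ = 4)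
    (h4' : Nat.card ↥⁅V, zpowers y⁆ = 4) (hn : x ∈ 𝐍[⁅V, zpowers y⁆]) :
    zpowers y = zpowers x ∨ ⁅V, zpowers y⁆ ≤ 𝐜[x] := by
  refine ((mdi_dich (h.i_ea (h.i_le hy)) h4' hn (h.i_ord hx)).imp_right fun k => ?_).symm
  have h1 := (odd_split (h.i_ea (h.i_le hy)) (h.i_odd (zpowers_le.2 hx)) (zpowers_le.2 hn)).1
  rw [Amb.centralizer_zpowers, k, sup_bot_eq] at h1
  exact h.i_same hx hy h4 (eq_of_le_of_card_ge (h1.ge.trans (commutator_mono (h.i_le hy) le_rfl))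
    (by rw [h4, h4']))

theorem Mn.i_swap (hx : x ∈ D) (hy : y ∈ D) (h4 : Nat.card ↥⁅V, zpowers x⁆ = 4)
    (hn : y ∈ 𝐍[⁅V, zpowers x⁆]) : x ∈ 𝐍[⁅V, zpowers y⁆] := by
  have h1 : zpowers (y * x * y⁻¹) = zpowers x :=
    h.i_same hx (mul_mem (mul_mem hy hx) (inv_mem hy)) h4 (by
      conv_rhs => rw [← cj_of_mem_normalizer hn, ← commutator_cj, cj_of_mem_normalizer (h.DV hy),
        mdi_zp])
  have x3 : orderOf x = 3 := Nat.card_zpowers x ▸ h.i_card hx h4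
  have h2 : y ∈ 𝐜[x] := by
    classical
    obtain ⟨i, hi, e⟩ := Finset.mem_image.1 (mem_zpowers_iff_mem_range_orderOf.1
      (h1.le (mem_zpowers _)))
    rw [x3, Finset.mem_range] at hi
    refine mem_of_pow_mem_of_coprime (n := 2) (mem_centralizer_singleton_iff.2
      (mul_inv_eq_iff_eq_mul.1 ?_)) (Nat.coprime_two_right.2 (h.i_ord hy))
    have e2 : y ^ 2 * x * (y ^ 2)⁻¹ = x ^ (i * i) := by
      rw [pow_mul, e, conj_pow, e, sq]; group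
    interval_cases i
    · rw [pow_zero, eq_comm, conj_eq_one_iff] at e
      rw [e, orderOf_one] at x3
      omega
    · rw [e2, pow_one]
    · rw [e2, show 2 * 2 = 3 + 1 from rfl, pow_succ, ← x3, pow_orderOf_eq_one, one_mul]
  refine le_normalizer_commutator (zpowers_le.2 (h.DV hx)) (zpowers_le.2
    (centralizer_le_normalizer' _ ?_)) (mem_zpowers x)
  rw [Amb.centralizer_zpowers, mem_centralizer_singleton_iff]
  exact (mem_centralizer_singleton_iff.1 h2).symm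

theorem Mn.i_key {P : Subgroup G} (hP : IsPGroup 3 P) (hx : x ∈ D) (xP : x ∈ P)
    (h4 : Nat.card ↥⁅V, zpowers x⁆ = 4) {a : G} (ha : a ∈ V) (hi : (𝐜[a]).relIndex P ∣ 3)
    (hxa : x ∉ 𝐜[a]) : P ≤ 𝐍[⁅V, zpowers x⁆] := by
  have : Fact (Nat.Prime 3) := ⟨Nat.prime_three⟩
  rw [← inf_relIndex_left] at hi
  have h1 := lt_inf_normalizer hP (inf_lt_left.2 fun k => hxa (k xP) : P ⊓ 𝐜[a] < P)
  have h2 := (mdi_max hi h1.le inf_le_left h1.not_ge xP).2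
  have h3 : a ∈ 𝐂[(P ⊓ 𝐜[a] : Subgroup G)] := fun q hq => mem_centralizer_singleton_iff.1 hq.2
  have nC := normalizer_le_normalizer_centralizer _ h2
  have uU : ⁅a, x⁆ ∈ ⁅V, zpowers x⁆ := commutator_mem_commutator ha (mem_zpowers x)
  have uC : ⁅a, x⁆ ∈ 𝐂[(P ⊓ 𝐜[a] : Subgroup G)] := by
    rw [commutatorElement_def, mul_assoc, mul_assoc, ← mul_assoc x]
    exact mul_mem h3 (conj_mem_of_mem_normalizer nC (inv_mem h3))
  have u1 : ⁅a, x⁆ ≠ 1 := fun e => hxa (mem_centralizer_singleton_iff.2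
    (commutatorElement_eq_one_iff_mul_comm.1 e).symm)
  generalize ⁅a, x⁆ = u at uU uC u1
  have h5 : ⁅V, zpowers x⁆ ≤ 𝐂[(P ⊓ 𝐜[a] : Subgroup G)] := fun v hv => by
    have u' := conj_mem_of_mem_normalizer nC uC
    rcases mdi_four (h.i_ea (h.i_le hx)) h4 uU (conj_mem_of_mem_normalizer (h.i_nx hx) uU) u1
      (fun e => u1 (conj_eq_one_iff.1 e)) (fun e => u1 (mem_bot.1 ((h.i_bot hx).le ⟨uU,
        mem_centralizer_singleton_iff.2 (mul_inv_eq_iff_eq_mul.1 e.symm).symm⟩))) hv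
      with e | e | e | e <;> rw [e]
    · exact one_mem _
    · exact uC
    · exact u'
    · exact mul_mem uC u'
  exact (mdi_max hi (le_inf inf_le_left ((le_centralizer_iff.1 h5).trans
    (centralizer_le_normalizer' _))) inf_le_left fun k => hxa (k ⟨xP, h.i_nx hx⟩).2).trans inf_le_right

theorem Mn.i_b (hx : x ∈ D) (hy : y ∈ D) (h4 : Nat.card ↥⁅V, zpowers x⁆ = 4)
    (h4' : Nat.card ↥⁅V, zpowers y⁆ = 4) : zpowers y = zpowers x ∨ ⁅V, zpowers y⁆ ≤ 𝐜[x] := by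
  have : Fact (Nat.Prime 3) := ⟨Nat.prime_three⟩
  refine h.i_cen hx hy h4 h4' ?_
  have p3 : ∀ {x}, x ∈ D → Nat.card ↥⁅V, zpowers x⁆ = 4 → zpowers x ≤ pCoreOf 3 D := fun hx h4 =>
    Solv.NA.le_pCoreOf_of_isNilpotent h.nil (IsPGroup.of_card (n := 1) (h.i_card hx h4)) (zpowers_le.2 hx)
  have hP := (isPGroup_pCoreOf 3 D).to_le (sup_le (p3 hx h4) (p3 hy h4'))
  have PD := sup_le (zpowers_le.2 hx) (zpowers_le.2 hy)
  have YV := sup_le (h.i_le hx) (h.i_le hy)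
  obtain ⟨a, ha, a1, hi⟩ := mdi_orb hP (mdi_norm YV (mdi_sup YV le_sup_left le_sup_right)) (by
    have h1 := Grp.card_sup_dvd_of_le_normalizer (H := ⁅V, zpowers x⁆) (N := ⁅V, zpowers y⁆)
      fun u hu => centralizer_le_normalizer' _
        fun v hv => Misc.comm_of_sq h.ea.2 v (h.i_le hy hv) u (h.i_le hx hu)
    have h2 := card_le_of_le (le_sup_left : ⁅V, zpowers x⁆ ≤ ⁅V, zpowers x⁆ ⊔ ⁅V, zpowers y⁆)
    rw [h4, h4'] at h1
    rw [h4] at h2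
    have h3 := Nat.le_of_dvd (by norm_num) h1
    generalize Nat.card ↥(⁅V, zpowers x⁆ ⊔ ⁅V, zpowers y⁆) = n at h1 h2 h3
    interval_cases n <;> omega)
  by_cases c : x ∈ 𝐜[a]
  · refine h.i_key hP hy (mem_sup_right (mem_zpowers y)) h4' (YV ha) hi (fun c' => a1 (mem_bot.1 ?_))
      (mem_sup_left (mem_zpowers x))
    refine (odd_split h.ea (h.i_odd PD) (PD.trans h.DV)).2.1.le ⟨sup_le (commutator_mono le_rfl le_sup_left)
      (commutator_mono le_rfl le_sup_right) ha, fun p hp => ?_⟩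
    exact mem_centralizer_singleton_iff.1 (sup_le (zpowers_le.2 c) (zpowers_le.2 c') hp)
  · exact h.i_swap hx hy h4 (h.i_key hP hx (mem_sup_left (mem_zpowers x)) h4 (YV ha) hi c
      (mem_sup_right (mem_zpowers y)))

end

theorem Mn.f_odd (h : Mn V S D F) {f : G} (hf : f ∈ F) : Odd (orderOf f) :=
  h.oF.of_dvd_nat (F.orderOf_dvd_natCard hf)

theorem Mn.f_three (h : Mn V S D F) {f z : G} (hf : f ∈ F) (hz : z ∈ D) (h3 : orderOf z = 3) :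
    ¬ 3 ∣ orderOf f := fun k =>
  h.tF (h3 ▸ D.orderOf_dvd_natCard hz) (k.trans (F.orderOf_dvd_natCard hf))

theorem Mn.u_cj {g : G} (hg : g ∈ 𝐍[V]) (x : G) :
    ⁅V, zpowers (g * x * g⁻¹)⁆ = cj(g, ⁅V, zpowers x⁆) := (mb_cj hg x).symm

/-- the end of every diagonal argument with `z ∈ D`, `v ∈ U_z` -/
theorem Mn.diagV (h : Mn V S D F) {z v : G} (hz : z ∈ D) (hv : v ∈ ⁅V, zpowers z⁆) (v1 : v ≠ 1)
    (hd : ∀ f ∈ F, (f * z * f⁻¹ = z ∧ f * v * f⁻¹ = v) ∨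
      (f * z * f⁻¹ ∈ 𝐜[z] ⊓ 𝐜[v] ∧ f * v * f⁻¹ ∈ 𝐜[z])) : False := by
  have vV := h.i_le hz hv
  have k := diag_cj h.FD hz h.FV vV h.n1 fun f hf => (hd f hf).imp_right fun k => ⟨k.1, k.2,
    mem_centralizer_singleton_iff.2
      (Misc.comm_of_sq h.ea.2 _ (conj_mem_of_mem_normalizer (h.FV hf) vV) _ vV)⟩
  have k2 : ⁅z, v⁆ ∈ ⁅V, zpowers z⁆ := by
    rw [← commutatorElement_inv]
    exact inv_mem (commutator_mem_commutator vV (mem_zpowers z))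
  have k3 := commutatorElement_eq_one_iff_mul_comm.1 (mem_bot.1 ((h.i_bot hz).le ⟨k2, k.1⟩))
  exact v1 (mem_bot.1 ((h.i_bot hz).le ⟨hv, mem_centralizer_singleton_iff.2 k3.symm⟩))

/-- no element of type 2 -/
theorem Mn.no2 (h : Mn V S D F) {x : G} (hx : x ∈ D) : Nat.card ↥⁅V, zpowers x⁆ ≠ 4 := by
  intro h4
  have x3 : orderOf x = 3 := Nat.card_zpowers x ▸ h.i_card hx h4
  obtain ⟨⟨v, hv⟩, v1⟩ := (ne_bot_iff_exists_ne_one (H := ⁅V, zpowers x⁆)).1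
    fun e => by rw [e, card_bot] at h4; omega
  refine h.diagV hx hv (fun e => v1 (Subtype.ext e)) fun f hf => ?_
  have hy := conj_mem_of_mem_normalizer (h.FD hf) hx
  have c := Mn.u_cj (h.FV hf) x
  have h4' : Nat.card ↥⁅V, zpowers (f * x * f⁻¹)⁆ = 4 := by rw [c, card_cj, h4]
  by_cases e : zpowers (f * x * f⁻¹) = zpowers x
  · refine .inl ⟨cen_of_35 (.inl x3) (e.le (mem_zpowers _)) (h.f_odd hf), ?_⟩
    have n : f ∈ 𝐍[⁅V, zpowers x⁆] := cj_eq_iff.1 (by rw [← c, e])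
    exact mul_inv_eq_iff_eq_mul.2
      (cen_of_le_four n h4.le (h.f_odd hf) (h.f_three hf hx x3) v hv).symm
  have a := (h.i_b hx hy h4 h4').resolve_left e
  have a' := (h.i_b hy hx h4' h4).resolve_left (Ne.symm e)
  refine .inr ⟨⟨?_, mem_centralizer_singleton_iff.2 (mem_centralizer_singleton_iff.1 (a' hv)).symm⟩,
    a (c ▸ conj_mem_cj f hv)⟩
  refine mem_centralizer_singleton_iff.2 (commutatorElement_eq_one_iff_mul_comm.1 (mem_bot.1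
    (h.fD.le ⟨?_, comm_mem_cent h.ea (h.DV hy) (h.DV hx) a a'⟩)))
  exact D.mul_mem (D.mul_mem (D.mul_mem hy hx) (D.inv_mem hy)) (D.inv_mem hx)

theorem Mn.one (h : Mn V S D F) {x s : G} (hx : x ∈ D) (_hs : s ∈ S) (_hi : s * x * s⁻¹ = x⁻¹) :
    Nat.card ↥⁅V, zpowers x⁆ ≠ 4 := h.no2 hx

theorem Mn.mb_odd (h : Mn V S D F) {x : G} (hx : x ∈ D) : Odd (orderOf x) :=
  h.odd.of_dvd_nat (D.orderOf_dvd_natCard hx)

theorem Mn.mb_le (h : Mn V S D F) {x : G} (hx : x ∈ D) : ⁅V, zpowers x⁆ ≤ V :=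
  le_normalizer_iff_commutator_le_left.1 (zpowers_le.2 (h.DV hx))

theorem Mn.mb_split (h : Mn V S D F) {x : G} (hx : x ∈ D) :
    ⁅V, zpowers x⁆ ⊔ (V ⊓ 𝐜[x]) = V ∧ ⁅V, zpowers x⁆ ⊓ 𝐜[x] = ⊥ := by
  have := odd_split h.ea (X := zpowers x) (by rw [Nat.card_zpowers]; exact h.mb_odd hx)
    (zpowers_le.2 (h.DV hx))
  rw [Amb.centralizer_zpowers] at this
  exact ⟨this.1, this.2.1⟩

theorem Mn.mb_cent (h : Mn V S D F) {x g : G} (hx : x ∈ D) (h1 : ⁅V, zpowers x⁆ ≤ 𝐜[g])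
    (h2 : V ⊓ 𝐜[x] ≤ 𝐜[g]) : g ∈ 𝐂[V] := fun _ hv =>
  mem_centralizer_singleton_iff.1 (sup_le h1 h2 ((h.mb_split hx).1.ge hv))

theorem Mn.mb_six (h : Mn V S D F) (hb : Sm V S b) {x : G} (hx : x ∈ D) (h1 : x ≠ 1)
    (hi : b * x * b⁻¹ = x⁻¹) : Nat.card ↥⁅V, zpowers x⁆ = 16 ∧ Nat.card ↥⁅V, zpowers b⁆ = 4 ∧
      ⁅V, zpowers x⁆ ⊓ 𝐜[b] = ⁅V, zpowers b⁆ ∧
      ⁅V, zpowers x⁆ = ⁅V, zpowers b⁆ ⊔ cj(x, ⁅V, zpowers b⁆) := by
  have hU := elemAb_mono h.ea (h.mb_le hx)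
  obtain ⟨a1, a2, a3⟩ := free_inv hU hb.sq (h.mb_odd hx) hi (mb_ni (h.SV hb.mem) hi)
    (mb_nc (h.DV hx) rfl) (h.mb_split hx).2
  have a4 : ⁅V, zpowers x⁆ ⊓ 𝐜[b] ≤ ⁅V, zpowers b⁆ := a2 ▸ commutator_mono (h.mb_le hx) le_rfl
  have a5 := (card_comm_inv h.ea hb.sq (h.SV hb.mem)).1.trans_le hb.le
  have a6 := card_le_of_le a4
  obtain ⟨k, hk⟩ := ((elemAb_isPGroup hU).to_le (inf_le_left (b := 𝐜[b]))).exists_card_eq
  have a7 : k = 2 := by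
    rcases k with _ | _ | _ | k
    · rw [hk, pow_zero, one_pow, card_eq_one] at a1
      exact (h1 (mem_bot.1 (h.fD ▸ mem_inf.2 ⟨hx, h.mb_cent hx (a1 ▸ bot_le) inf_le_right⟩))).elim
    · exact (h.one hx hb.mem hi (by rw [a1, hk]; rfl)).elim
    · rfl
    · have := Nat.one_le_two_pow (n := k)
      rw [hk, pow_succ, pow_succ, pow_succ] at a6
      omega
  subst a7
  have a8 := eq_of_le_of_card_ge a4 (by omega)
  exact ⟨by rw [a1, hk]; rfl, by omega, a8, by rw [← a8]; exact a3⟩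

theorem Mn.mb_I (h : Mn V S D F) (hb : Sm V S b) {x : G} (hx : x ∈ D) (h1 : x ≠ 1)
    (hi : b * x * b⁻¹ = x⁻¹) : ⁅V, zpowers b⁆ ≤ ⁅V, zpowers x⁆ :=
  (h.mb_six hb hx h1 hi).2.2.1.ge.trans inf_le_left

theorem Mn.sixteen (h : Mn V S D F) (hb : Sm V S b) {x : G} (hx : x ∈ D) (h1 : x ≠ 1)
    (hi : b * x * b⁻¹ = x⁻¹) : Nat.card ↥⁅V, zpowers x⁆ = 16 ∧ Nat.card ↥⁅V, zpowers b⁆ = 4 ∧
      ⁅V, zpowers x⁆ = ⁅V, zpowers b⁆ ⊔ cj(x, ⁅V, zpowers b⁆) :=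
  have := h.mb_six hb hx h1 hi
  ⟨this.1, this.2.1, this.2.2.2⟩

theorem Mn.invz (h : Mn V S D F) (hb : Sm V S b) {z : G} (hz : z ∈ D ⊓ 𝐂[D])
    (hp : (orderOf z).Prime) (hi : b * z * b⁻¹ = z⁻¹) : (orderOf z = 3 ∨ orderOf z = 5) ∧
      ∀ x ∈ D, (∃ k, orderOf x = orderOf z ^ k) → b * x * b⁻¹ = x⁻¹ → x ∈ zpowers z := by
  have z1 : z ≠ 1 := fun e => hp.ne_one (orderOf_eq_one_iff.2 e)
  obtain ⟨c1, c2, c3, -⟩ := h.mb_six hb hz.1 z1 hi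
  have key : ∀ y ∈ D, b * y * b⁻¹ = y⁻¹ → y ≠ 1 → ⁅V, zpowers z⁆ ⊓ 𝐜[y] = ⊥ := by
    intro y hy hy2 hy1
    have a1 := (free_inv (elemAb_mono h.ea (inf_le_left.trans (h.mb_le hy))) hb.sq (h.mb_odd hy) hy2
      (mb_inf (mb_ni (h.SV hb.mem) hy2) (mb_ni (h.SV hb.mem) hi))
      (mb_inf (mb_nc (h.DV hy) rfl) (mb_nc (h.DV hy) (hz.2 y hy)))
      (eq_bot_iff.2 ((inf_le_inf_right _ inf_le_left).trans (h.mb_split hy).2.le))).1
    have a2 := card_le_of_le (le_inf (le_inf (h.mb_I hb hy hy1 hy2) (c3.ge.trans inf_le_left))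
      (c3.ge.trans inf_le_right))
    have a3 := eq_of_le_of_card_ge (inf_le_right (a := ⁅V, zpowers y⁆) (b := ⁅V, zpowers z⁆))
      (by rw [a1, c1]; nlinarith)
    rw [← a3]
    exact eq_bot_iff.2 ((inf_le_inf_right _ inf_le_left).trans (h.mb_split hy).2.le)
  have key2 : ∀ x ∈ D, b * x * b⁻¹ = x⁻¹ → Nat.card ↥(zpowers x ⊔ zpowers z) ∣ 16 - 1 := by
    intro x hx hx2
    have hX : zpowers x ⊔ zpowers z ≤ D := sup_le (zpowers_le.2 hx) (zpowers_le.2 hz.1)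
    rw [← c1]
    refine card_dvd_of_fpf (fun y hy => mb_nc (h.DV (hX hy)) (hz.2 y (hX hy))) fun y hy =>
      key y (hX hy) ?_
    obtain ⟨a, ha, c, hc, rfl⟩ := (mem_sup_of_le_normalizer_right (zpowers_le.2
      (centralizer_le_normalizer' _ (by
        rw [Amb.centralizer_zpowers]; exact mem_centralizer_singleton_iff.2 (hz.2 x hx))))).1 hy
    have e := (zpowers_le.2 hz.2 hc) a (zpowers_le.2 hx ha)
    rw [← conj_mul, mb_inv hx2 ha, mb_inv hi hc, e, mul_inv_rev]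
  have h35 : orderOf z = 3 ∨ orderOf z = 5 := by
    have := key2 z hz.1 hi
    rw [sup_idem, Nat.card_zpowers, show 16 - 1 = 3 * 5 from rfl, hp.dvd_mul] at this
    exact this.imp (Nat.prime_dvd_prime_iff_eq hp Nat.prime_three).1
      (Nat.prime_dvd_prime_iff_eq hp Nat.prime_five).1
  exact ⟨h35, fun x hx hk hx2 => mb_fifteen h35 (hz.2 x hx) hk (key2 x hx hx2)⟩

theorem Mn.mb_irr (h : Mn V S D F) {z : G} (hz : z ∈ D) (h5 : orderOf z = 5)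
    (hc : Nat.card ↥⁅V, zpowers z⁆ = 16) {Y : Subgroup G} (hY : Y ≤ ⁅V, zpowers z⁆) (hn : z ∈ 𝐍[Y]) :
    Y = ⊥ ∨ Y = ⁅V, zpowers z⁆ := by
  have a1 := card_dvd_of_fpf (zpowers_le.2 hn) fun y hy h1 => by
    rw [← Amb.centralizer_zpowers, mb_zp (h5 ▸ Nat.prime_five) hy h1, Amb.centralizer_zpowers]
    exact eq_bot_iff.2 ((inf_le_inf_right _ hY).trans (h.mb_split hz).2.le)
  rw [Nat.card_zpowers, h5] at a1
  obtain ⟨k, hk, e⟩ := (Nat.dvd_prime_pow Nat.prime_two (m := 4)).1 (hc ▸ card_dvd_of_le hY :)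
  rw [e] at a1
  interval_cases k
  · exact Or.inl (card_eq_one.1 e)
  · omega
  · omega
  · omega
  · exact Or.inr (eq_of_le_of_card_ge hY (by omega))

theorem Mn.mb_gen (h : Mn V S D F) {z t : G} (hz : z ∈ D ⊓ 𝐂[D]) (h5 : orderOf z = 5)
    (hc : Nat.card ↥⁅V, zpowers z⁆ = 16) (ht : t ∈ D) :
    ⁅V, zpowers z⁆ ≤ ⁅V, zpowers t⁆ ∨ ⁅V, zpowers z⁆ ≤ 𝐜[t] :=
  (h.mb_irr hz.1 h5 hc inf_le_left (mb_inf (mb_nc (h.DV hz.1) rfl)
    (mb_nc (h.DV hz.1) (hz.2 t ht).symm))).symm.imp inf_eq_left.1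
    (mb_cen (mb_nc (h.DV ht) (hz.2 t ht)) (commutator_mono (h.mb_le hz.1) le_rfl))

theorem Mn.mb_not (h : Mn V S D F) {z : G} (hz : z ∈ D) (hc : Nat.card ↥⁅V, zpowers z⁆ = 16) :
    ¬ ⁅V, zpowers z⁆ ≤ 𝐜[z] := fun h1 => by
  rw [← inf_eq_left.2 h1, (h.mb_split hz).2, card_bot] at hc
  omega

theorem Mn.mb_eq (h : Mn V S D F) (hb : Sm V S b) {b' z z' : G} (hb' : Sm V S b')
    (hz : z ∈ D ⊓ 𝐂[D]) (h5 : orderOf z = 5) (hi : b * z * b⁻¹ = z⁻¹) (hz' : z' ∈ D ⊓ 𝐂[D])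
    (h5' : orderOf z' = 5) (hi' : b' * z' * b'⁻¹ = z'⁻¹) (e : ⁅V, zpowers z⁆ = ⁅V, zpowers z'⁆) :
    b' = b := by
  have z1 : z ≠ 1 := fun e => by simp [e] at h5
  have c1 := (h.mb_six hb hz.1 z1 hi).1
  have nC : ∀ g ∈ 𝐍[V], g ∈ 𝐍[zpowers z] → g ∈ 𝐍[V ⊓ 𝐜[z]] := fun g h1 h2 =>
    mb_inf h1 (Amb.centralizer_zpowers z ▸ normalizer_le_normalizer_centralizer _ h2)
  have hC : ∀ g ∈ 𝐍[V], g ∈ 𝐍[zpowers z] → ⁅V, zpowers g⁆ ≤ ⁅V, zpowers z⁆ → V ⊓ 𝐜[z] ≤ 𝐜[g] :=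
    fun g h1 h2 h3 => mb_cen (nC g h1 h2) ((commutator_mono inf_le_left le_rfl).trans h3)
      (eq_bot_iff.2 ((le_inf inf_le_right (inf_le_left.trans inf_le_right)).trans
        (h.mb_split hz.1).2.le))
  have hX : zpowers z ⊔ zpowers z' ≤ D := sup_le (zpowers_le.2 hz.1) (zpowers_le.2 hz'.1)
  have a1 : z ∈ zpowers z' := by
    refine mb_fifteen (Or.inr h5') (hz'.2 z hz.1) ⟨1, by rw [h5, h5', pow_one]⟩ ?_
    rw [← c1]
    refine card_dvd_of_fpf (fun y hy => mb_nc (h.DV (hX hy)) (hz.2 y (hX hy))) fun y hy y1 => ?_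
    refine (h.mb_irr hz.1 h5 c1 inf_le_left (mb_inf (mb_nc (h.DV hz.1) rfl)
      (mb_ncc (hz.2 y (hX hy)).symm))).resolve_right fun h1 => y1 (mem_bot.1 (h.fD ▸ mem_inf.2
        ⟨hX hy, h.mb_cent hz.1 (inf_eq_left.1 h1) ?_⟩))
    have : zpowers z ⊔ zpowers z' ≤ 𝐂[V ⊓ 𝐜[z]] := by
      rw [le_centralizer_iff, Amb.centralizer_sup, Amb.centralizer_zpowers, Amb.centralizer_zpowers]
      refine le_inf inf_le_right (hC z' (h.DV hz'.1) (centralizer_le_normalizer' _ ?_) e.ge)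
      rw [Amb.centralizer_zpowers]
      exact mem_centralizer_singleton_iff.2 (hz.2 z' hz'.1)
    exact fun v hv => mem_centralizer_singleton_iff.2 (this hy v hv)
  have a2 := mb_inv hi' a1
  have nz : ∀ g : G, g * z * g⁻¹ = z⁻¹ → g ∈ 𝐍[zpowers z] := fun g hg => by
    rw [← cj_eq_iff, MonoidHom.map_zpowers]
    exact (congrArg zpowers hg).trans zpowers_inv
  have a3 : b * b' * z = z * (b * b') := by
    rw [← mul_inv_eq_iff_eq_mul, mul_inv_rev]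
    calc _ = b * (b' * z * b'⁻¹) * b⁻¹ := by group
      _ = z := by rw [a2, ← conj_inv, hi, inv_inv]
  have cS := mul_mem hb.mem hb'.mem
  have a4 : ⁅V, zpowers z⁆ ≤ 𝐜[b * b'] := by
    refine inf_eq_left.1 ((h.mb_irr hz.1 h5 c1 inf_le_left (mb_inf (mb_nc (h.DV hz.1) rfl)
      (mb_ncc a3.symm))).resolve_left ?_)
    rw [← Amb.centralizer_zpowers]
    refine inf_centralizer_ne_bot (h.pg.to_le (zpowers_le.2 cS))
      (elemAb_isPGroup (elemAb_mono h.ea (h.mb_le hz.1))) (zpowers_le.2 (mb_nc (h.SV cS) a3))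
      fun h0 => ?_
    rw [h0, card_bot] at c1
    omega
  have a5 : b * b' = 1 := mem_bot.1 (h.fS ▸ mem_inf.2 ⟨cS, h.mb_cent hz.1 a4 fun v hv => by
    have e1 := mem_centralizer_singleton_iff.1
      (hC b (h.SV hb.mem) (nz b hi) (h.mb_I hb hz.1 z1 hi) hv)
    have e2 := mem_centralizer_singleton_iff.1
      (hC b' (h.SV hb'.mem) (nz b' a2) (h.mb_I hb' hz.1 z1 a2) hv)
    rw [mem_centralizer_singleton_iff, ← mul_assoc, e1, mul_assoc, e2, mul_assoc]⟩)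
  exact mul_left_cancel (a5.trans hb.sq.symm)

end Cfsg.Agent.CpN
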