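import Cfsg.Agent.CpN.MnC

/-!
# `Mn`: type B small involutions (STUB, ~90 lines)

`U_x = ⁅V, zpowers x⁆`, `I_b = ⁅V, zpowers b⁆`.
-/

set_option autoImplicit false
set_option linter.unusedSectionVars false

namespace Cfsg.Agent.CpN

open Cfsg.Agent.PLocal hiding centralizer_anti
open Subgroup Cfsg Cfsg.Agent.PLocal.Amb Cfsg.Agent.PLocal.TV
open Cfsg.Agent.PLocal.SL2Nat Cfsg.Agent.PLocal.Bk
open Cfsg.Agent.PLocal.CP (IsCharP MinOver ncl secCent)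
open Cfsg.Agent.Solv.Ext (Inv)
open Cfsg.Agent.QT.Qrc (P2)
open Cfsg.Agent.NFS
open scoped commutatorElement MatrixGroups Cfsg.Agent.PLocal.CP

open Cfsg.Agent.NFS.MdC

variable {G : Type*} [Group G] [Finite G] {V S D F : Subgroup G} {b b' : G}

theorem Mn.tB_card (h : Mn V S D F) (hb : Sm V S b) (hc : D ⊓ 𝐂[D] ≤ 𝐜[b]) {P : Subgroup G}
    (hP : P ≤ D ⊓ 𝐂[D]) (hU : ⁅V, P⁆ ≤ ⁅V, ⁅D, zpowers b⁆⁆) : Nat.card P ∣ 3 := by
  have := card_dvd_of_fpf (X := P) (Y := ⁅V, zpowers b⁆)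
    (fun p hp => n_comm (h.DV (hP hp).1) (nz_c (hc (hP hp)))) fun p hp p1 => ?_
  · rwa [h.card_I hb] at this
  rcases (h.zb hb hc).2.2.2 p (hP hp) with a | a
  · have h1 := h.i_bot (hP hp).1
    rw [inf_eq_left.2 (((commutator_mono le_rfl (zpowers_le.2 hp)).trans hU).trans a), commutator_comm,
      commutator_eq_bot_iff_le_centralizer] at h1
    exact absurd (mem_bot.1 (h.fD.le ⟨(hP hp).1, h1 (mem_zpowers p)⟩)) p1
  · exact eq_bot_iff.2 ((inf_le_inf_right _ ((h.I_le hb hc).trans a)).trans (h.i_bot (hP hp).1).le)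

/-- `U_b = ⁅V, ⁅D, zpowers b⁆⁆ = U_z`, `z ∈ Z(D)` (`zb`), `I_b = ⁅V, zpowers b⁆ ≤ U_b` has order 4
(`I_le`, `card_I`).  Let `y ∈ Z(D)` with `U_y ≤ U_b` and `P = ⟨y, z⟩ ≤ Z(D)`; `[V, P] ≤ U_b`.  Each
`1 ≠ p ∈ P` has `U_b ≤ U_p` (last clause of `zb`; the other case gives `U_p ≤ 𝐜[p]`, `U_p = ⊥`, `p = 1`
by `fD`), so is fixed point free on `I_b` (which it normalises: `hc`); `|P| ∣ 3` (`card_dvd_of_fpf`);
`z ≠ 1`.  So `z` has order 3 and `y ∈ ⟨z⟩`.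
`Mn.diagV` with `z` and `1 ≠ v ∈ I_b`.  Let `f ∈ F`, `b' = f b f⁻¹` (`NFS.typeB_cj`), `z' = f z f⁻¹`,
`U_{b'} = cj(f, U_b) = U_{z'}`.  If `b' = b`: `z' ∈ ⟨z⟩`, `cen_of_35`; `f` normalises `I_b`,
`cen_of_le_four` (`f_odd`, `f_three`).  Otherwise `dis` and `mb_cen` give `U_z ≤ 𝐜[z']`, `U_{z'} ≤ 𝐜[z]`.
See the proof of `Mn.no2`. -/
theorem Mn.typeB (h : Mn V S D F) (hb : Sm V S b) (hc : D ⊓ 𝐂[D] ≤ 𝐜[b]) : False := by
  obtain ⟨-, e2, ⟨z, hz, hUz⟩, -⟩ := h.zb hb hc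
  have z3 : Nat.card (zpowers z) = 3 :=
    ((Nat.dvd_prime Nat.prime_three).1 (h.tB_card hb hc (zpowers_le.2 hz) hUz.ge)).resolve_left fun e =>
      e2 (by rw [hUz, card_eq_one.1 e, commutator_bot_right]; exact bot_le)
  have o3 : orderOf z = 3 := Nat.card_zpowers z ▸ z3
  have c4 := h.card_I hb
  obtain ⟨⟨v, hv⟩, v1⟩ := (ne_bot_iff_exists_ne_one (H := ⁅V, zpowers b⁆)).1
    fun e => by rw [e, card_bot] at c4; omega
  have vz : v ∈ ⁅V, zpowers z⁆ := hUz.le (h.I_le hb hc hv)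
  refine h.diagV hz.1 vz (fun e => v1 (Subtype.ext e)) fun f hf => ?_
  obtain ⟨hb', hc'⟩ := typeB_cj hb hc (h.FV hf) (h.FS hf) (h.FD hf)
  have hz' : f * z * f⁻¹ ∈ D ⊓ 𝐂[D] := conj_mem_of_mem_normalizer
    (n_inf (h.FD hf) (normalizer_le_normalizer_centralizer _ (h.FD hf))) hz
  have c := Mn.u_cj (h.FV hf) z
  have hU' : ⁅V, ⁅D, zpowers (f * b * f⁻¹)⁆⁆ = ⁅V, zpowers (f * z * f⁻¹)⁆ := by
    rw [c, ← hUz, ← commutator_cj, ← commutator_cj, cj_of_mem_normalizer (h.FV hf),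
      cj_of_mem_normalizer (h.FD hf), mdi_zp]
  by_cases e : f * b * f⁻¹ = b
  · rw [e] at hU'
    have h1 := Nat.le_of_dvd (by norm_num) (h.tB_card hb hc (sup_le (zpowers_le.2 hz') (zpowers_le.2 hz))
      (mdi_sup (hUz.le.trans (h.i_le hz.1)) hU'.ge hUz.ge))
    have h2 := eq_of_le_of_card_ge (le_sup_right (a := zpowers (f * z * f⁻¹)) (b := zpowers z)) (by rwa [z3])
    refine .inl ⟨cen_of_35 (.inl o3) (h2.ge (mem_sup_left (mem_zpowers _))) (h.f_odd hf), ?_⟩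
    have n : f ∈ 𝐍[⁅V, zpowers b⁆] := cj_eq_iff.1 (by rw [← Mn.u_cj (h.FV hf), e])
    exact mul_inv_eq_iff_eq_mul.2
      (cen_of_le_four n c4.le (h.f_odd hf) (h.f_three hf hz.1 o3) v hv).symm
  have d := h.dis hb hc hb' hc' e
  rw [hUz, hU'] at d
  have zz := hz.2 _ hz'.1
  have a := mb_cen (mb_nc (h.DV hz'.1) zz) (commutator_mono (h.i_le hz.1) le_rfl) d
  have a' := mb_cen (mb_nc (h.DV hz.1) zz.symm) (commutator_mono (h.i_le hz'.1) le_rfl) ((inf_comm _ _).trans d)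
  exact .inr ⟨⟨mem_c.2 zz, c_symm (a vz)⟩, a' (c ▸ conj_mem_cj f vz)⟩

end Cfsg.Agent.CpN
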