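import Cfsg.Agent.CpN.Bas
import Cfsg.Agent.S1220
import Cfsg.Agent.Inv.StrongEmb

/-!
# No strongly embedded subgroup (STUB, ~90 lines)

Tools: `Inv.isStronglyEmbedded_iff`, `Inv.SE.*` (`Inv/StrongEmb`), `Solv.Ext.glauberman_exists`.
-/

set_option autoImplicit false
set_option linter.unusedSectionVars false

namespace Cfsg.Agent.CpN

open Cfsg.Agent.PLocal hiding centralizer_anti
open Subgroup Cfsg Cfsg.Agent.PLocal.Amb Cfsg.Agent.PLocal.TV
open Cfsg.Agent.PLocal.SL2Nat Cfsg.Agent.PLocal.Bk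
open Cfsg.Agent.PLocal.CP (IsCharP MinOver ncl secCent)
open Cfsg.Agent.Solv.Ext (Inv)
open Cfsg.Agent.QT.Qrc (P2)
open Cfsg.Agent.NFS
open scoped commutatorElement MatrixGroups Cfsg.Agent.PLocal.CP

variable {G : Type*} [Group G] [Finite G] {A : Type*} [Group A] [Finite A] [MulDistribMulAction A G]
  {S : Subgroup G}

theorem se_ord (a : A) (t : G) : orderOf (a • t) = orderOf t :=
  orderOf_injective (Solv.Ext.hom G a) (Solv.Ext.hom_injective a) t

theorem Cn.fix_inv (h : Cn A S) {M : Subgroup G} (hM : IsStronglyEmbedded M) (hi : Inv A M) :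
    ∃ z ∈ M, orderOf z = 2 ∧ ∀ a : A, a • z = z := by
  obtain ⟨t, tM, t2⟩ := Agent.Inv.SE.exists_involution hM
  let _ : MulAction G G := MulAction.compHom _ (MulAut.conj : G →* MulAut G)
  obtain ⟨k, hk, e⟩ := Solv.Ext.glauberman_exists (A := A) (G := G) (X := G) (fun a k x => by
    change a • (k * x * k⁻¹) = a • k * a • x * (a • k)⁻¹
    rw [smul_mul', smul_mul', smul_inv']) M hi (h.cop.coprime_dvd_right M.card_subgroup_dvd_card)
    (.inl h.oddA.2.1) t fun a =>
      let ⟨k, hk, e⟩ := Agent.Inv.SE.exists_conj_mem hM tM (hi a t tM) t2 ((se_ord a t).trans t2)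
      ⟨k, hk, e.symm⟩
  exact ⟨k * t * k⁻¹, mul_mem (mul_mem hk tM) (inv_mem hk), (Agent.Inv.orderOf_conj k t).trans t2, e⟩

/-- A conjugate `H'` of `H` contains `S` (`SE.exists_sylow_le`, `SE.map_conj`).  `M = ⨅ a, H'.map (hom G a)`
is invariant, contains `S ≠ ⊥`, and is strongly embedded (`isStronglyEmbedded_iff`; each `H'^a` is). -/
theorem Cn.inv_se (h : Cn A S) {H : Subgroup G} (hH : IsStronglyEmbedded H) :
    ∃ M : Subgroup G, IsStronglyEmbedded M ∧ Inv A M := by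
  obtain ⟨t, tH, t2⟩ := Agent.Inv.SE.exists_involution hH
  have := Fact.mk Nat.prime_two
  obtain ⟨g, -, hg⟩ := h.syl.exists_cj_le (Agent.Inv.isPGroup_zpowers_of_orderOf_two t2) le_top
  have hH' := Agent.Inv.SE.map_conj hH g
  have tS := hg (conj_mem_cj g (mem_zpowers t))
  have o := (Agent.Inv.orderOf_conj g t).trans t2
  have SH := Agent.Inv.SE.le_of_isPGroup_of_mem hH' h.syl.pgrp tS (conj_mem_cj g tH)
    (Agent.Inv.ne_one_of_orderOf_two o)
  have m : ∀ x, x ∈ ⨅ a : A, cj(g, H).comap (Solv.Ext.hom G a) ↔ ∀ a : A, a • x ∈ cj(g, H) :=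
    fun x => mem_iInf
  refine ⟨⨅ a : A, cj(g, H).comap (Solv.Ext.hom G a), Agent.Inv.isStronglyEmbedded_iff.2
    ⟨fun e => hH'.1 (eq_top_iff.2 fun x _ => one_smul A x ▸ (m x).1 (e.ge trivial) 1),
      Agent.Inv.even_card_of_involution ((m _).2 fun a => SH (h.inv a _ tS)) o,
      fun u hu u2 x hx => (m x).2 fun a => Agent.Inv.SE.mem_of_conj_mem hH' ((m u).1 hu a)
        ((se_ord a u).trans u2) ?_⟩, fun a x hx => (m _).2 fun b => mul_smul b a x ▸ (m x).1 hx _⟩
  rw [← smul_inv', ← smul_mul', ← smul_mul']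
  exact (m _).1 hx a

/-- `M` from `inv_se`.  (1) A fixed involution `z ∈ M`: involutions of `M` are conjugate in `M`
(`SE.exists_conj_mem`); `glauberman_exists` for the conjugation action, `K = M` (see the last lines of
`NFK/Main`).  (2) A fixed `c ∉ M`: `S1220.result` (second case: `oddCore G = ⊥` as `G` is simple and
not solvable, so `M = ⊤`) says that `M` is transitive on the cosets `g M ≠ M`; `glauberman_exists` for
`X = G ⧸ M` (or for the subgroups `cj(g, M)`: `exists_inv_conj`, `𝐍[M] = M`), `K = M`, gives `g' ∉ M` with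
`g'⁻¹ (a • g') ∈ M` for all `a`; `Dec.lift`.  (3) `z' = c z c⁻¹ ∉ M` (`SE.mem_of_conj_mem`) is a fixed
involution, `z z'` is fixed of odd order (`SE.odd_orderOf_mul`), so commutes with `z` (`dec`), which
inverts it; so `(z z')² = 1`, `z z' = 1`, `z' = z ∈ M`. -/
theorem Cn.no_se (h : Cn A S) {H : Subgroup G} (hH : IsStronglyEmbedded H) : False := by
  obtain ⟨M, hM, hi⟩ := h.inv_se hH
  obtain ⟨z, zM, z2, fz⟩ := h.fix_inv hM hi
  have := h.simple
  have tr := (S1220.result M hM).resolve_right fun c => hM.1 (by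
    simpa [Agent.Inv.ZStar.oddCore_eq_bot_of_simple z2] using c.2)
  obtain ⟨g, hg⟩ := Agent.Inv.SE.exists_not_mem hM
  obtain ⟨k, hk, e⟩ := Solv.Ext.exists_inv_conj M hi
    (h.cop.coprime_dvd_right M.card_subgroup_dvd_card) (.inl h.oddA.2.1) cj(g, M) fun a => by
      obtain ⟨k, hk, e⟩ := tr g (a • g) hg fun c => hg ((hi.smul_mem_iff a).1 c)
      refine ⟨k, hk, (Solv.Ext.smul_conj_smul a g M).trans ?_⟩
      rw [Solv.Ext.inv_iff_smul_eq.1 hi a]
      change cj(a • g, M) = cj(k, cj(g, M))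
      rw [← cj_mul, ← mul_inv_cancel_left (a • g) (k * g), cj_mul, cj_of_mem e]
  obtain ⟨y, yM, y2, fy⟩ := h.fix_inv (M := cj(k * g, M)) (Agent.Inv.SE.map_conj hM _) (cj_mul k g M ▸ e)
  have yn : y ∉ M := fun c => hg ((mul_mem_cancel_left hk).1
    (Agent.Inv.SE.mem_of_conj_mem' hM c y2 (mem_cj.1 yM)))
  refine yn (Agent.Inv.SE.mem_of_commute hM zM z2 (mul_left_cancel (a := z) ?_))
  rw [← mul_assoc]
  exact h.dec _ _ (fun a => by rw [smul_mul', fz, fy]) fz (Agent.Inv.SE.odd_orderOf_mul hM zM yn z2 y2)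
    ⟨1, by rw [pow_one, ← z2, pow_orderOf_eq_one]⟩

end Cfsg.Agent.CpN
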