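import Cfsg.Agent.CpN.MnD
import Cfsg.Agent.CpN.Bas
import Cfsg.Agent.NFS.Trans

/-!
# Transport of the module lemma to `G` (port of the end of NFS/Trans)
-/

set_option autoImplicit false
set_option linter.unusedSectionVars false

namespace Cfsg.Agent.CpN

open Cfsg.Agent.PLocal hiding centralizer_anti
open Subgroup Cfsg Cfsg.Agent.PLocal.Amb Cfsg.Agent.PLocal.TV
open Cfsg.Agent.PLocal.SL2Nat Cfsg.Agent.PLocal.Bk
open Cfsg.Agent.PLocal.CP (IsCharP MinOver ncl secCent)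
open Cfsg.Agent.Solv.Ext (Inv)
open Cfsg.Agent.QT.Qrc (P2)
open Cfsg.Agent.NFS
open scoped commutatorElement MatrixGroups Cfsg.Agent.PLocal.CP

variable {G : Type*} [Group G] [Finite G] {A : Type*} [Group A] [Finite A] [MulDistribMulAction A G]
  {S : Subgroup G}

theorem Dec.lift_j (h : Dec A G) {Γ : Type*} [Group Γ] [Finite Γ]
    {V H T : Subgroup G} {i : V →* Γ} {j : H →* Γ} {f : A →* Γ} (m : Mo i j f) (hn : H ≤ 𝐍[V])
    (hH : Inv A H) (hI : Inv A V) (hT : Inv A T) {t : H} (ht : (t : G) ∈ T)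
    (hc : j t ∈ 𝐂[f.range]) : ∃ c : H, (c : G) ∈ T ∧ (∀ a : A, a • (c : G) = c) ∧ j c = j t := by
  obtain ⟨c, h1, h2⟩ := h.lift ((hH.inf hT).inf hI.centralizer) (g := t) fun a => by
    refine ⟨⟨H.mul_mem (H.inv_mem t.2) (hH a _ t.2), T.mul_mem (T.inv_mem ht) (hT a _ ht)⟩, ?_⟩
    refine (m.comap_j hn).le (x := t⁻¹ * ⟨_, hH a _ t.2⟩) (mem_comap.2 ?_)
    rw [map_mul, map_inv, ← m.fj a t ⟨_, hH a _ t.2⟩ rfl, hc _ ⟨a, rfl⟩, mul_inv_cancel_right,
      inv_mul_cancel]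
    exact one_mem _
  have cH : c ∈ H := by simpa using mul_mem t.2 h2.1.1
  refine ⟨⟨c, cH⟩, by simpa using mul_mem ht h2.1.2, h1, ?_⟩
  have := m.ker (t⁻¹ * ⟨c, cH⟩) h2.2
  rw [map_mul, map_inv, inv_mul_eq_one] at this
  exact this.symm

theorem Dec.lift_odd (h : Dec A G) {Γ : Type*} [Group Γ] [Finite Γ]
    {V H : Subgroup G} {i : V →* Γ} {j : H →* Γ} {f : A →* Γ} (m : Mo i j f) (hn : H ≤ 𝐍[V])
    (hH : Inv A H) (hI : Inv A V) {t : H} (ho : Odd (orderOf (j t)))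
    (hc : j t ∈ 𝐂[f.range]) :
    ∃ c : H, Odd (orderOf (c : G)) ∧ (∀ a : A, a • (c : G) = c) ∧ j c = j t := by
  obtain ⟨c, -, h1, h2⟩ := h.lift_j m hn hH hI hH t.2 hc
  obtain ⟨u, ⟨n, rfl⟩, w, ⟨l, rfl⟩, ⟨k, hk⟩, h3, h4⟩ := two_odd c
  refine ⟨c ^ l, by rwa [orderOf_coe], fun a => by rw [coe_zpow, smul_zpow', h1], ?_⟩
  have e : j (c ^ n) = 1 := by
    refine orderOf_eq_one_iff.1 (Nat.eq_one_of_dvd_coprimes (ho.coprime_two_right.pow_right k) ?_
      (orderOf_dvd_of_pow_eq_one (by rw [← map_pow, hk, map_one])))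
    rw [map_zpow, h2]
    exact orderOf_dvd_of_mem_zpowers (zpow_mem (mem_zpowers _) n)
  have := congrArg j h4
  rw [map_mul, e, one_mul] at this
  rw [← h2]
  exact this.symm

/-- Copy `NFS.Mo.md`.  `oF`: `|f.range| ∣ |A|`.  `tF`: `|D| ∣ |j.range| ∣ |H| ∣ |G|`, `cop`.
`n1`, `n2`: let `x = j g ∈ D ⊓ 𝐂[F]`.  `j (a • g) = j g` (`fj`), so `g⁻¹ (a • g) ∈ N = H ⊓ 𝐂[V]` (`comap_j`),
which is invariant; `Dec.lift` gives a fixed `c ∈ g N ≤ H`, `j c = x` (`ker`); the odd part `c'` of `c`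
(`two_odd`) is fixed with `j c' = x` (`x` has odd order).  `i v ∈ 𝐂[F]` means that `v` is fixed (`fi`, `inj`);
`dec`, `comm_iff`.  For `j t`, `t ∈ T`, lift with `N = T ⊓ 𝐂[V]`: a fixed element of the 2-group `T`. -/
theorem Dec.mn (h : Dec A G) (hA : Odd (Nat.card A)) {Γ : Type*} [Group Γ] [Finite Γ]
    {V H T : Subgroup G} {i : V →* Γ} {j : H →* Γ} {f : A →* Γ} (m : Mo i j f) (hn : H ≤ 𝐍[V])
    (hH : Inv A H) (hI : Inv A V) (hT : Inv A T) (hp : IsPGroup 2 T) (hTH : T ≤ H)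
    (hs : Group.IsSolvable H) (hV : IsElementaryAbelian 2 V) (hr : CP.RedMod 2 𝐂[V] H) :
    Mn i.range ((T.subgroupOf H).map j) ((fittingSubgroup j.range).map j.range.subtype)
      f.range := by
  haveI : Group.IsSolvable j.range := solvable_of_surjective j.rangeRestrict_surjective
  have hS : (T.subgroupOf H).map j ≤ j.range := map_le_range _ _
  have hp' : IsPGroup 2 ((T.subgroupOf H).map j) := (hp.comap_subtype).map j
  have hc := Grp.coprime_of_le_pPrimeCore (Grp.fitting_le_pPrimeCore_of_pCore_eq_bot (m.core hn hr))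
  rw [← Subgroup.card_map_of_injective j.range.subtype_injective] at hc
  have hF : f.range ≤ 𝐍[j.range] := by
    have := m.f_norm' hH hH
    rwa [subgroupOf_self, ← MonoidHom.range_eq_map] at this
  have hFA : Nat.card f.range ∣ Nat.card A := card_range_dvd f
  have key : ∀ x ∈ (fittingSubgroup j.range).map j.range.subtype ⊓ 𝐂[f.range],
      ∃ c : H, Odd (orderOf (c : G)) ∧ (∀ a : A, a • (c : G) = c) ∧ j c = x := by
    intro x hx
    obtain ⟨g, rfl⟩ := map_subtype_le _ hx.1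
    exact h.lift_odd m hn hH hI ((Nat.coprime_two_right.1 hc).of_dvd_nat
      (Subgroup.orderOf_dvd_natCard _ hx.1)) hx.2
  refine ⟨?_, hp', Grp.isNilpotent_map_fitting _, Nat.coprime_two_right.1 hc,
    hS.trans (m.j_norm hn), (map_subtype_le _).trans (m.j_norm hn), m.f_norm hI,
    hS.trans (le_normalizer_map_subtype _),
    hF.trans (CP.normalizer_le_normalizer_map_subtype _ _), m.f_norm' hH hT,
    eq_bot_iff.2 ((inf_le_inf_right _ (map_subtype_le _)).trans (m.faith hn).le),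
    eq_bot_iff.2 ((inf_le_inf_right _ hS).trans (m.faith hn).le), ?_, hA.of_dvd_nat hFA, ?_, ?_, ?_⟩
  · have := isEA_map (isEA_subgroupOf hV V) i
    rwa [subgroupOf_self, ← MonoidHom.range_eq_map] at this
  · refine eq_bot_iff.2 fun s hs => ?_
    have h1 : s ∈ (fittingSubgroup j.range).map j.range.subtype :=
      ⟨⟨s, hS hs.1⟩, Grp.centralizer_fitting_le _ fun x hx => Subtype.ext (hs.2 _ ⟨x, hx, rfl⟩), rfl⟩
    obtain ⟨k, hk⟩ := hp' ⟨s, hs.1⟩
    exact orderOf_eq_one_iff.1 (Nat.eq_one_of_dvd_coprimes (hc.pow_right k)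
      (Subgroup.orderOf_dvd_natCard _ h1) (orderOf_dvd_of_pow_eq_one (congrArg Subtype.val hk)))
  · intro h3 h3'
    have := Nat.eq_one_of_dvd_coprimes h.cop (h3'.trans hFA)
      (h3.trans ((card_dvd_of_le (map_subtype_le _)).trans ((card_range_dvd j).trans
        (card_subgroup_dvd_card H))))
    omega
  · rintro x hx _ ⟨⟨v, rfl⟩, hv⟩
    obtain ⟨c, c1, c2, rfl⟩ := key x hx
    refine (m.comm_iff hn c v).2 (h.dec _ _ c2 (fun a => ?_) c1 ⟨1, by rw [pow_one, hV.2 v v.2]⟩)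
    have e := m.fi a v ⟨_, hI a _ v.2⟩ rfl
    rw [hv _ ⟨a, rfl⟩, mul_inv_cancel_right] at e
    exact (congrArg Subtype.val (m.inj e)).symm
  · rintro x hx _ ⟨⟨t, ht, rfl⟩, hv⟩
    obtain ⟨c, c1, c2, rfl⟩ := key x hx
    obtain ⟨d, d1, d2, d3⟩ := h.lift_j m hn hH hI hT ht hv
    obtain ⟨k, hk⟩ := hp ⟨d, d1⟩
    rw [← d3, ← map_mul, ← map_mul]
    exact congrArg j (Subtype.ext (h.dec _ _ c2 d2 c1 ⟨k, congrArg Subtype.val hk⟩))

/-- copy `NFS.Ce.p24` -/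
theorem Cn.p24 {H : Subgroup G} (h : Cn A S) (hH : Inv A H) (hSH : S ≤ H)
    (hs : Group.IsSolvable H) (hV : IsElementaryAbelian 2 (ncl 𝐙[S] H)) :
    P2 (ncl 𝐙[S] H) S ∧ P4 (ncl 𝐙[S] H) S := by
  have hZ : Inv A 𝐙[S] := fun a x hx => by
    rw [CP.mem_omegaZ] at hx ⊢
    exact ⟨h.inv a x hx.1, h.inv.centralizer a x hx.2.1, by rw [← smul_pow', hx.2.2, smul_one]⟩
  have hI : Inv A (ncl 𝐙[S] H) := Solv.Ext.inv_iff_map_eq.2 fun a => by
    rw [CP.map_ncl, hZ.map_eq, hH.map_eq]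
  have hn := CP.le_normalizer_ncl 𝐙[S] H
  obtain ⟨i, j, f, m⟩ := exists_mo hI hn
  haveI : Finite (Solv.Ext.SD (MulAut (ncl 𝐙[S] H)) (ncl 𝐙[S] H)) := Solv.Ext.finite_SD
  have hm := h.toDec.mn h.oddA.1 m hn hH hI h.inv h.syl.pgrp hSH hs hV
    ((CP.redMod_of_le (CP.le_centralizer_omegaZ S)).ncl (h.syl.mono hSH le_top) le_rfl hSH)
  refine ⟨fun B hB h1 h2 => ?_, fun B hB h1 h2 => ?_⟩
  · rw [← m.idx_j hn (hB.trans hSH), ← m.idx_i hn (hB.trans hSH)]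
    exact hm.p2 _ (map_mono (comap_mono hB)) (m.quad hn (hB.trans hSH) h1)
      (m.not_le hn (hB.trans hSH) h2)
  · rw [← m.idx_j hn (hB.trans hSH), ← m.idx_i hn (hB.trans hSH)]
    exact hm.p4 _ (map_mono (comap_mono hB)) (isEA_map (isEA_subgroupOf h1 H) j)
      (m.not_le hn (hB.trans hSH) h2)

/-- `exists_mo`, `Dec.mn`, `Mn.two` for `j t` (`j t ≠ 1` by `comap_j`), `Mo.idx_i` with `B = zpowers t` -/
theorem Dec.two (h : Dec A G) (hA : Odd (Nat.card A)) {V H T : Subgroup G} (hn : H ≤ 𝐍[V])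
    (hH : Inv A H) (hI : Inv A V) (hT : Inv A T) (hp : IsPGroup 2 T) (hTH : T ≤ H)
    (hs : Group.IsSolvable H) (hV : IsElementaryAbelian 2 V) (hr : CP.RedMod 2 𝐂[V] H) {t : G}
    (ht : t ∈ T) (t2 : t * t = 1) (tc : t ∉ 𝐂[V]) : 8 ≤ (𝐜[t]).relIndex V := by
  obtain ⟨i, j, f, m⟩ := exists_mo hI hn
  haveI : Finite (Solv.Ext.SD (MulAut V) V) := Solv.Ext.finite_SD
  have hm := h.mn hA m hn hH hI hT hp hTH hs hV hr
  have k := hm.two (b := j ⟨t, hTH ht⟩) ⟨⟨t, hTH ht⟩, ht, rfl⟩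
    (by rw [← map_mul, ← map_one j]; exact congrArg j (Subtype.ext t2))
    fun e => tc ((m.comap_j hn).le (x := ⟨t, hTH ht⟩) (by rw [mem_comap, e]; exact one_mem _))
  have hB : zpowers t ≤ H := zpowers_le.2 (hTH ht)
  have e : (zpowers t).subgroupOf H = zpowers (⟨t, hTH ht⟩ : H) := by
    apply map_injective H.subtype_injective
    rw [subgroupOf_map_subtype, MonoidHom.map_zpowers, inf_eq_left.2 hB]
    rfl
  have := m.idx_i hn hB
  rw [e, MonoidHom.map_zpowers, Amb.centralizer_zpowers, Amb.centralizer_zpowers] at this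
  rwa [← this]

end Cfsg.Agent.CpN
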